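import Cfsg.Agent.OrthTwo.Blocks
import Cfsg.Agent.S0762
import Cfsg.Agent.S0763
import Cfsg.Prelude.Def_Classical

/-!
# Minus-type forms in characteristic two

Hyperbolic and binary forms, their orthogonal decompositions, and the classification: a form of
dimension `2 (k + 1)` with non-degenerate polar form and no Lagrangian is the minus form.
-/

set_option autoImplicit false

namespace CfsgLib.OrthTwo

open Module QuadraticMap
open LinearMap (range ker)

variable {F : Type*} [Field F]

/-- The hyperbolic form `∑ x_i y_i`. -/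
noncomputable def hyp (F : Type*) [Field F] (k : ℕ) : QuadraticForm F ((Fin k → F) × (Fin k → F)) :=
  LinearMap.BilinMap.toQuadraticMap (LinearMap.mk₂ F
    (fun v w : (Fin k → F) × (Fin k → F) => ∑ i, v.1 i * w.2 i)
    (fun v v' w => by simp [add_mul, Finset.sum_add_distrib])
    (fun c v w => by simp [Finset.mul_sum, mul_assoc])
    (fun v w w' => by simp [mul_add, Finset.sum_add_distrib])
    (fun c v w => by simp [Finset.mul_sum, mul_left_comm]))

theorem hyp_apply {k : ℕ} (v : (Fin k → F) × (Fin k → F)) : hyp F k v = ∑ i, v.1 i * v.2 i := rfl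

theorem hyp_polar {k : ℕ} (v w : (Fin k → F) × (Fin k → F)) :
    polar (hyp F k) v w = ∑ i, (v.1 i * w.2 i + w.1 i * v.2 i) := by
  rw [polar, hyp_apply, hyp_apply, hyp_apply, ← Finset.sum_sub_distrib, ← Finset.sum_sub_distrib]
  refine Finset.sum_congr rfl fun i _ => ?_
  simp only [Prod.fst_add, Prod.snd_add, Pi.add_apply]
  ring

/-- The binary form `z₁² + a z₁ z₂ + b z₂²`. -/
noncomputable def bin (a b : F) : QuadraticForm F (F × F) :=
  LinearMap.BilinMap.toQuadraticMap (LinearMap.mk₂ F
    (fun z w : F × F => z.1 * w.1 + a * (z.1 * w.2) + b * (z.2 * w.2))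
    (fun z z' w => by simp; ring)
    (fun c z w => by simp; ring)
    (fun z w w' => by simp; ring)
    (fun c z w => by simp; ring))

theorem bin_apply (a b : F) (z : F × F) : bin a b z = z.1 ^ 2 + a * z.1 * z.2 + b * z.2 ^ 2 := by
  change z.1 * z.1 + a * (z.1 * z.2) + b * (z.2 * z.2) = _
  ring

variable [CharP F 2]

theorem bin_polar (a b : F) (z w : F × F) :
    polar (bin a b) z w = a * (z.1 * w.2 + z.2 * w.1) := by
  simp only [polar, bin_apply, Prod.fst_add, Prod.snd_add]
  linear_combination (z.1 * w.1 + b * (z.2 * w.2)) * (CharTwo.two_eq_zero (R := F))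

theorem hyp_nondeg (k : ℕ) : (polarBilin (hyp F k)).Nondegenerate := by
  have h : ∀ v : (Fin k → F) × (Fin k → F), (∀ w, polar (hyp F k) v w = 0) → v = 0 := by
    intro v hv
    refine Prod.ext (funext fun i => ?_) (funext fun i => ?_)
    · simpa [hyp_polar, Pi.single_apply] using hv (0, Pi.single i 1)
    · simpa [hyp_polar, Pi.single_apply] using hv (Pi.single i 1, 0)
  exact ⟨fun v hv => h v hv, fun v hv => h v fun w => by rw [polar_comm]; exact hv w⟩

theorem bin_nondeg {a : F} (ha : a ≠ 0) (b : F) : (polarBilin (bin a b)).Nondegenerate := by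
  have h : ∀ v : F × F, (∀ w, polar (bin a b) v w = 0) → v = 0 := by
    intro v hv
    refine Prod.ext ?_ ?_
    · simpa [bin_polar, ha] using hv (0, 1)
    · simpa [bin_polar, ha] using hv (1, 0)
  exact ⟨fun v hv => h v hv, fun v hv => h v fun w => by rw [polar_comm]; exact hv w⟩

omit [CharP F 2] in
theorem prod_nondeg {V W : Type*} [AddCommGroup V] [Module F V] [AddCommGroup W] [Module F W]
    {Q : QuadraticForm F V} {Q' : QuadraticForm F W} (h : (polarBilin Q).Nondegenerate)
    (h' : (polarBilin Q').Nondegenerate) : (polarBilin (Q.prod Q')).Nondegenerate := by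
  have key : ∀ v : V × W, (∀ w, polar (Q.prod Q') v w = 0) → v = 0 := by
    intro v hv
    refine Prod.ext (h.1 _ fun x => ?_) (h'.1 _ fun y => ?_)
    · simpa using hv (x, 0)
    · simpa using hv (0, y)
  exact ⟨fun v hv => key v hv, fun v hv => key v fun w => by rw [polar_comm]; exact hv w⟩

/-- A binary form without non-zero zeros. -/
def Aniso (a b : F) : Prop := ∀ z₁ z₂ : F, z₁ ^ 2 + a * z₁ * z₂ + b * z₂ ^ 2 = 0 → z₁ = 0 ∧ z₂ = 0

theorem Aniso.ne_zero [Finite F] {a b : F} (h : Aniso a b) : a ≠ 0 := by
  rintro rfl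
  have : Fact (Nat.Prime 2) := ⟨Nat.prime_two⟩
  obtain ⟨r, hr⟩ := (frobeniusEquiv F 2).surjective b
  rw [frobeniusEquiv_apply] at hr
  have h1 := (h r 1 (by rw [← hr, frobenius_def]; simp [CharTwo.add_self_eq_zero])).2
  exact one_ne_zero h1

/-- The minus form has no Lagrangian. -/
theorem noLagrangian_minus {a b : F} (hab : Aniso a b) (ha : a ≠ 0) (k : ℕ) :
    NoLagrangian ((hyp F k).prod (bin a b)) := by
  intro W hts hperp
  set Q := (hyp F k).prod (bin a b) with hQ
  have hnd : (polarBilin Q).Nondegenerate := prod_nondeg (hyp_nondeg k) (bin_nondeg ha b)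
  let B : LinearMap.BilinForm F (((Fin k → F) × (Fin k → F)) × (F × F)) := polarBilin Q
  have hB : ∀ u v, B u v = polar Q u v := fun u v => rfl
  have hrefl : B.IsRefl := fun u v huv => by
    rw [hB] at huv ⊢
    rwa [polar_comm]
  have heq : B.orthogonal W = W := by
    refine le_antisymm (fun x hx => hperp x fun w hw => by rw [polar_comm]; exact hx w hw) ?_
    intro x hx w hw
    rw [hB, polar, hts _ (W.add_mem hw hx), hts w hw, hts x hx, sub_zero, sub_zero]
  have hdim : finrank F W = k + 1 := by
    have h := LinearMap.BilinForm.finrank_orthogonal hnd W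
    rw [heq] at h
    have hle := W.finrank_le
    simp [Module.finrank_prod] at h hle
    omega
  -- project to the `x` coordinates
  let π : W →ₗ[F] (Fin k → F) := (LinearMap.fst F _ _ ∘ₗ LinearMap.fst F _ _) ∘ₗ W.subtype
  let ρ : ↥(ker π) →ₗ[F] (Fin k → F) :=
    ((LinearMap.snd F _ _ ∘ₗ LinearMap.fst F _ _) ∘ₗ W.subtype) ∘ₗ (ker π).subtype
  have hρ : Function.Injective ρ := by
    suffices key : ∀ v, ρ v = 0 → v = 0 from fun u v huv =>
      sub_eq_zero.1 (key (u - v) ((LinearMap.map_sub ρ u v).trans (sub_eq_zero.2 huv)))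
    rintro ⟨⟨⟨⟨x, y⟩, z⟩, hw⟩, hx⟩ hy
    have hx0 : x = 0 := hx
    have hy0 : y = 0 := hy
    subst hx0 hy0
    have h0 := hts _ hw
    rw [hQ, prod_apply, hyp_apply, bin_apply] at h0
    simp only [Pi.zero_apply, mul_zero, Finset.sum_const_zero, zero_add] at h0
    obtain ⟨h1, h2⟩ := hab _ _ h0
    apply Subtype.ext
    apply Subtype.ext
    exact Prod.ext rfl (Prod.ext h1 h2)
  let D : Submodule F (Fin k → F) := range ρ
  have hD : finrank F D = finrank F (ker π) := LinearMap.finrank_range_of_inj hρ
  let dotB : LinearMap.BilinForm F (Fin k → F) := Matrix.toBilin' (1 : Matrix (Fin k) (Fin k) F)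
  have hdot : ∀ u v, dotB u v = ∑ i, u i * v i := fun u v => by
    simp [dotB, Matrix.toBilin'_apply', dotProduct]
  have hperpD : range π ≤ dotB.orthogonal D := by
    rintro _ ⟨w, rfl⟩ _ ⟨⟨v, hv⟩, rfl⟩
    rw [hdot]
    have h0 : polar Q (v : W).1 (w : _) = 0 := by
      rw [polar, hts _ (W.add_mem v.2 w.2), hts _ v.2, hts _ w.2, sub_zero, sub_zero]
    have hv0 : (v : _).1.1.1 = 0 := hv
    have hz : (v : _).1.2 = 0 := by
      have h2 := hts _ v.2
      rw [hQ, prod_apply, hyp_apply, bin_apply, hv0] at h2
      simp only [Pi.zero_apply, zero_mul, Finset.sum_const_zero, zero_add] at h2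
      exact Prod.ext (hab _ _ h2).1 (hab _ _ h2).2
    rw [hQ, polar_prod, hyp_polar, bin_polar, hz, hv0] at h0
    simpa [ρ, π, mul_comm] using h0
  have hdotnd : dotB.Nondegenerate := by
    refine ⟨fun u hu => funext fun i => ?_, fun u hu => funext fun i => ?_⟩
    · simpa [hdot, Pi.single_apply] using hu (Pi.single i 1)
    · simpa [hdot, Pi.single_apply] using hu (Pi.single i 1)
  have hdotrefl : dotB.IsRefl := fun u v huv => by
    rw [hdot] at huv ⊢
    simpa [mul_comm] using huv
  have h1 := Submodule.finrank_mono hperpD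
  have h2 := LinearMap.BilinForm.finrank_orthogonal hdotnd D
  have h3 := π.finrank_range_add_finrank_ker
  have h4 := D.finrank_le
  simp only [Module.finrank_fin_fun] at h2 h4
  omega

omit [CharP F 2] in
theorem hyp_add (i j : ℕ) : (hyp F (i + j)).Equivalent ((hyp F i).prod (hyp F j)) := by
  refine ⟨⟨
    { toFun := fun v => ((fun l => v.1 (Fin.castAdd j l), fun l => v.2 (Fin.castAdd j l)),
        (fun l => v.1 (Fin.natAdd i l), fun l => v.2 (Fin.natAdd i l)))
      map_add' := fun _ _ => rfl
      map_smul' := fun _ _ => rfl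
      invFun := fun w => (Fin.append w.1.1 w.2.1, Fin.append w.1.2 w.2.2)
      left_inv := fun v => Prod.ext (Fin.append_castAdd_natAdd) (Fin.append_castAdd_natAdd)
      right_inv := fun w => by simp }, fun v => ?_⟩⟩
  simp only [prod_apply, hyp_apply]
  rw [Fin.sum_univ_add]

omit [CharP F 2] in
theorem prod_assoc {V W U : Type*} [AddCommGroup V] [Module F V] [AddCommGroup W] [Module F W]
    [AddCommGroup U] [Module F U] (P : QuadraticForm F V) (Q : QuadraticForm F W) (R : QuadraticForm F U) :
    ((P.prod Q).prod R).Equivalent (P.prod (Q.prod R)) :=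
  ⟨⟨LinearEquiv.prodAssoc F V W U, fun v => by
    rcases v with ⟨⟨x, y⟩, z⟩
    simp [LinearEquiv.prodAssoc, add_assoc]⟩⟩

omit [CharP F 2] in
theorem prod_comm {V W : Type*} [AddCommGroup V] [Module F V] [AddCommGroup W] [Module F W]
    (P : QuadraticForm F V) (Q : QuadraticForm F W) : (P.prod Q).Equivalent (Q.prod P) :=
  ⟨QuadraticMap.IsometryEquiv.prodComm P Q⟩

/-- Two equal anisotropic planes make a hyperbolic space. -/
theorem bin_prod_bin {a : F} (ha : a ≠ 0) (b : F) : ((bin a b).prod (bin a b)).Equivalent (hyp F 2) := by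
  refine ⟨⟨
    { toFun := fun v => (![v.1.1 + v.2.1, v.1.2 + v.2.2],
        ![a * v.1.2 + (v.1.1 + v.2.1) + a * (v.1.2 + v.2.2), a * v.1.1 + b * (v.1.2 + v.2.2)])
      map_add' := fun v w => by
        refine Prod.ext (funext fun l => ?_) (funext fun l => ?_) <;> fin_cases l <;>
          simp <;> ring
      map_smul' := fun c v => by
        refine Prod.ext (funext fun l => ?_) (funext fun l => ?_) <;> fin_cases l <;>
          simp <;> ring
      invFun := fun w => (((w.2 1 + b * w.1 1) / a, (w.2 0 + w.1 0 + a * w.1 1) / a),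
        ((w.2 1 + b * w.1 1) / a + w.1 0, (w.2 0 + w.1 0 + a * w.1 1) / a + w.1 1))
      left_inv := fun v => by
        have h2 := CharTwo.two_eq_zero (R := F)
        refine Prod.ext (Prod.ext ?_ ?_) (Prod.ext ?_ ?_) <;> simp <;> field_simp
        · linear_combination (b * (v.1.2 + v.2.2)) * h2
        · linear_combination (v.1.1 + v.2.1 + a * (v.1.2 + v.2.2)) * h2
        · linear_combination (b * (v.1.2 + v.2.2) + a * v.1.1) * h2
        · linear_combination (v.1.1 + v.2.1 + a * (v.1.2 + v.2.2) + a * v.1.2) * h2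
      right_inv := fun w => by
        have h2 := CharTwo.two_eq_zero (R := F)
        refine Prod.ext (funext fun l => ?_) (funext fun l => ?_) <;> fin_cases l <;> simp <;> field_simp
        · linear_combination (w.2 1 + b * w.1 1) * h2
        · linear_combination (w.2 0 + w.1 0 + a * w.1 1) * h2
        · linear_combination (w.1 0 + a * w.1 1 + (w.2 1 + b * w.1 1) + a * (w.2 0 + w.1 0 + a * w.1 1) + a * w.1 0 - a * w.1 1 + a ^ 2 * w.1 1 - w.1 0) * h2
        · linear_combination (b * w.1 1 + b * (w.2 0 + w.1 0 + a * w.1 1) + a * b * w.1 1 - b * w.1 1) * h2 },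
    fun v => ?_⟩⟩
  simp [hyp_apply, bin_apply, prod_apply, Fin.sum_univ_two]
  linear_combination (a * v.1.1 * v.1.2 + a * v.1.2 * v.2.1 + a * v.1.2 * v.1.2 * 0 + v.1.1 * v.2.1 +
    a * v.1.1 * v.2.2 + b * v.1.2 * v.2.2) * (CharTwo.two_eq_zero (R := F))

/-- A plane without singular line is a binary form `z₁² + z₁z₂ + μ z₂²`. -/
theorem plane_normal [Finite F] {V : Type*} [AddCommGroup V] [Module F V] [FiniteDimensional F V]
    (Q : QuadraticForm F V) (hnd : (polarBilin Q).Nondegenerate) (h2 : finrank F V = 2)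
    (hL : NoLagrangian Q) : ∃ μ : F, (∀ x : F, x ^ 2 + x + μ ≠ 0) ∧ (bin 1 μ).Equivalent Q := by
  have mk : ∀ (v w : V), LinearIndependent F ![v, w] → Function.Bijective
      ((LinearMap.toSpanSingleton F V v).coprod (LinearMap.toSpanSingleton F V w)) := by
    intro v w hli
    have hinj : Function.Injective ((LinearMap.toSpanSingleton F V v).coprod (LinearMap.toSpanSingleton F V w)) := by
      rw [← LinearMap.ker_eq_bot, LinearMap.ker_eq_bot']
      rintro ⟨c, d⟩ hcd
      simp only [LinearMap.coprod_apply, LinearMap.toSpanSingleton_apply] at hcd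
      obtain ⟨hc, hd⟩ := LinearIndependent.pair_iff.1 hli c d hcd
      exact Prod.ext hc hd
    exact ⟨hinj, (LinearMap.injective_iff_surjective_of_finrank_eq_finrank (by simp [h2])).1 hinj⟩
  rcases Cfsg.Agent.S0763.result Q h2 hnd with ⟨v, w, hli, hv, -, hvw⟩ | ⟨v, w, μ, hli, hμ, hv, hw, hvw⟩
  · exfalso
    refine hL (Submodule.span F {v}) (fun x hx => ?_) fun x hx => ?_
    · obtain ⟨c, rfl⟩ := Submodule.mem_span_singleton.1 hx
      rw [QuadraticMap.map_smul, hv, smul_zero]
    · obtain ⟨⟨c, d⟩, rfl⟩ := (mk v w hli).2 x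
      have h := hx v (Submodule.mem_span_singleton_self v)
      simp only [LinearMap.coprod_apply, LinearMap.toSpanSingleton_apply, polar_add_left, polar_smul_left, polar_self, hv,
        polar_comm (⇑Q) w v, hvw] at h
      simp only [smul_zero, zero_add, smul_eq_mul, mul_one] at h
      have hd0 : d = 0 := by simpa using h
      simp only [LinearMap.coprod_apply, LinearMap.toSpanSingleton_apply, hd0, zero_smul, add_zero]
      exact Submodule.mem_span_singleton.2 ⟨c, rfl⟩
  · refine ⟨μ, hμ, ⟨⟨LinearEquiv.ofBijective _ (mk v w hli), fun z => ?_⟩⟩⟩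
    change Q ((LinearMap.toSpanSingleton F V v).coprod (LinearMap.toSpanSingleton F V w) z) = _
    simp only [LinearMap.coprod_apply, LinearMap.toSpanSingleton_apply, QuadraticMap.map_add (⇑Q), QuadraticMap.map_smul,
      polar_smul_left, polar_smul_right, hv, hw, hvw, bin_apply, smul_eq_mul]
    ring

omit [CharP F 2] in
theorem noLagrangian_congr {V W : Type*} [AddCommGroup V] [Module F V] [AddCommGroup W] [Module F W]
    {Q : QuadraticForm F V} {Q' : QuadraticForm F W} (he : Q.Equivalent Q') (hL : NoLagrangian Q) :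
    NoLagrangian Q' := by
  obtain ⟨e⟩ := he
  intro U hts hperp
  refine hL (U.comap e.toLinearEquiv.toLinearMap) (fun w hw => ?_) fun x hx => ?_
  · rw [← e.map_app w]
    exact hts _ hw
  · refine hperp _ fun u hu => ?_
    obtain ⟨w, rfl⟩ := e.toLinearEquiv.surjective u
    have h := hx w hu
    rw [polar] at h ⊢
    change Q' (e x + e w) - Q' (e x) - Q' (e w) = 0
    rw [← map_add]
    rw [e.map_app, e.map_app, e.map_app]
    exact h

/-- Anisotropic binary forms over a finite field are equivalent. -/
theorem bin_equivalent [Finite F] {a b : F} (hab : Aniso a b) {μ : F} (hμ : ∀ x : F, x ^ 2 + x + μ ≠ 0) :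
    (bin a b).Equivalent (bin 1 μ) := by
  classical
  cases nonempty_fintype F
  have ha := hab.ne_zero
  have hL : NoLagrangian (bin a b) := by
    intro W hts hperp
    have hW : W = ⊥ := (Submodule.eq_bot_iff W).2 fun w hw => by
      have h := hts w hw
      rw [bin_apply] at h
      exact Prod.ext (hab _ _ h).1 (hab _ _ h).2
    have := hperp (1, 0) fun w hw => by
      rw [hW, Submodule.mem_bot] at hw
      rw [hw, polar_zero_right]
    rw [hW, Submodule.mem_bot] at this
    simp at this
  obtain ⟨ν, hν, hQ⟩ := plane_normal (bin a b) (bin_nondeg ha b) (by simp) hL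
  refine hQ.symm.trans ?_
  -- `ν - μ` is a value of `t² + t`
  let φ : F →+ F := AddMonoidHom.mk' (fun t => t ^ 2 + t) fun x y => by
    linear_combination (x * y) * (CharTwo.two_eq_zero (R := F))
  have hker : φ.ker ≤ AddSubgroup.zmultiples (1 : F) := by
    intro t ht
    have h : t * (t + 1) = 0 := by
      have : t ^ 2 + t = 0 := ht
      linear_combination this
    rcases mul_eq_zero.1 h with h | h
    · exact h ▸ AddSubgroup.zero_mem _
    · rw [eq_neg_of_add_eq_zero_left h, CharTwo.neg_eq]
      exact AddSubgroup.mem_zmultiples 1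
  have hidx : φ.range.index ≤ 2 := by
    have h1 := φ.range.card_mul_index
    have h2 := φ.ker.card_mul_index
    rw [AddSubgroup.index_ker] at h2
    have h3 : Nat.card φ.ker ≤ 2 := by
      refine (AddSubgroup.card_le_of_le hker).trans ?_
      rw [Nat.card_zmultiples]
      exact addOrderOf_le_of_nsmul_eq_zero two_pos (by rw [two_nsmul]; exact CharTwo.add_self_eq_zero 1)
    have h4 : 0 < Nat.card φ.range := Nat.card_pos
    nlinarith
  have hμn : μ ∉ φ.range := fun ⟨t, ht⟩ => hμ t (by
    rw [show t ^ 2 + t = μ from ht]; exact CharTwo.add_self_eq_zero μ)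
  have hνn : ν ∉ φ.range := fun ⟨t, ht⟩ => hν t (by
    rw [show t ^ 2 + t = ν from ht]; exact CharTwo.add_self_eq_zero ν)
  have hidx2 : φ.range.index = 2 := by
    have h0 : φ.range.index ≠ 0 := AddSubgroup.index_ne_zero_of_finite
    have h1 : φ.range.index ≠ 1 := fun h => hμn (AddSubgroup.index_eq_one.1 h ▸ AddSubgroup.mem_top μ)
    omega
  obtain ⟨t, ht⟩ : ν + μ ∈ φ.range := by
    rw [AddSubgroup.add_mem_iff_of_index_two hidx2]
    exact iff_of_false hνn hμn
  replace ht : t ^ 2 + t = ν + μ := ht
  refine ⟨⟨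
    { toFun := fun z => (z.1 + t * z.2, z.2)
      map_add' := fun z w => by ext <;> simp; ring
      map_smul' := fun c z => by ext <;> simp; ring
      invFun := fun z => (z.1 + t * z.2, z.2)
      left_inv := fun z => by
        ext
        · linear_combination (t * z.2) * (CharTwo.two_eq_zero (R := F))
        · rfl
      right_inv := fun z => by
        ext
        · linear_combination (t * z.2) * (CharTwo.two_eq_zero (R := F))
        · rfl }, fun z => ?_⟩⟩
  simp [bin_apply]
  linear_combination (z.2 ^ 2) * ht + (t * z.1 * z.2 + μ * z.2 ^ 2) * (CharTwo.two_eq_zero (R := F))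

/-- The classification of minus forms. -/
theorem equivalent_minus [Finite F] {a b : F} (hab : Aniso a b) :
    ∀ (k : ℕ) {V : Type _} [AddCommGroup V] [Module F V] [FiniteDimensional F V] (Q : QuadraticForm F V),
      (polarBilin Q).Nondegenerate → finrank F V = 2 * (k + 1) → NoLagrangian Q →
      Q.Equivalent ((hyp F k).prod (bin a b)) := by
  intro k
  induction k with
  | zero =>
    intro V _ _ _ Q hnd h2 hL
    obtain ⟨μ, hμ, hQ⟩ := plane_normal Q hnd h2 hL
    refine (hQ.symm.trans (bin_equivalent hab hμ).symm).trans ⟨⟨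
      { toFun := fun z => ((fun l => l.elim0, fun l => l.elim0), z)
        map_add' := fun _ _ => Prod.ext (Subsingleton.elim _ _) rfl
        map_smul' := fun _ _ => Prod.ext (Subsingleton.elim _ _) rfl
        invFun := fun w => w.2
        left_inv := fun _ => rfl
        right_inv := fun _ => Prod.ext (Subsingleton.elim _ _) rfl }, fun z => ?_⟩⟩
    simp [hyp_apply]
  | succ k ih =>
    intro V _ _ _ Q hnd hd hL
    obtain ⟨v, hv0, hv⟩ := Cfsg.Agent.S0762.result Q (by omega)
    obtain ⟨w₀, hw₀⟩ : ∃ w, polar Q v w ≠ 0 := by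
      by_contra! h
      exact hv0 (hnd.1 v h)
    set w₁ := (polar Q v w₀)⁻¹ • w₀ with hw₁
    have h1 : polar Q v w₁ = 1 := by rw [hw₁, polar_smul_right, smul_eq_mul, inv_mul_cancel₀ hw₀]
    set w := w₁ + Q w₁ • v with hw
    have hvw : polar Q v w = 1 := by
      have hq : polar Q v v = 0 := by rw [polar_self, hv, smul_zero]
      rw [hw, polar_add_right, h1, polar_smul_right, hq, smul_zero, add_zero]
    have hww : Q w = 0 := by
      have hc : polar Q w₁ (Q w₁ • v) = Q w₁ := by
        rw [polar_comm, polar_smul_left, h1, smul_eq_mul, mul_one]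
      have hz : Q (Q w₁ • v) = 0 := by rw [QuadraticMap.map_smul, hv, smul_zero]
      rw [hw, QuadraticMap.map_add (⇑Q), hc, hz, add_zero]
      exact CharTwo.add_self_eq_zero _
    have hvv : polar Q v v = 0 := by rw [polar_self, hv, smul_zero]
    have hwwp : polar Q w w = 0 := by rw [polar_self, hww, smul_zero]
    let T : V →ₗ[F] F × F := ((polarBilin Q).flip w).prod ((polarBilin Q).flip v)
    have hT : ∀ x, T x = (polar Q x w, polar Q x v) := fun x => rfl
    let U := ker T
    have hmemU : ∀ y : V, y ∈ U → polar Q y w = 0 ∧ polar Q y v = 0 := fun y hy =>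
      Prod.mk.inj ((hT y).symm.trans (LinearMap.mem_ker.1 hy))
    let Q' : QuadraticForm F U := Q.comp U.subtype
    have hmem : ∀ x, x - polar Q x w • v - polar Q x v • w ∈ U := fun x => by
      rw [LinearMap.mem_ker, hT, Prod.mk_eq_zero]
      constructor <;>
        simp [polar_sub_left, polar_smul_left, hvv, hwwp, hvw, polar_comm (⇑Q) w v]
    let e : V ≃ₗ[F] ((Fin 1 → F) × (Fin 1 → F)) × U :=
      { toFun := fun x => ((fun _ => polar Q x w, fun _ => polar Q x v), ⟨_, hmem x⟩)
        map_add' := fun x y => by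
          refine Prod.ext (Prod.ext (funext fun _ => polar_add_left ..) (funext fun _ => polar_add_left ..)) (Subtype.ext ?_)
          simp only [polar_add_left, add_smul, Prod.snd_add, Submodule.coe_add]
          abel
        map_smul' := fun c x => by
          refine Prod.ext (Prod.ext (funext fun _ => polar_smul_left ..) (funext fun _ => polar_smul_left ..)) (Subtype.ext ?_)
          simp [polar_smul_left, smul_sub, mul_smul]
        invFun := fun p => p.1.1 0 • v + p.1.2 0 • w + p.2
        left_inv := fun x => by simp only; abel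
        right_inv := fun p => by
          have hu : polar Q p.2 w = 0 ∧ polar Q p.2 v = 0 := hmemU _ p.2.2
          have h5 : polar Q (p.1.1 0 • v + p.1.2 0 • w + (p.2 : V)) w = p.1.1 0 := by
            simp [polar_add_left, polar_smul_left, hvw, hwwp, hu.1]
          have h6 : polar Q (p.1.1 0 • v + p.1.2 0 • w + (p.2 : V)) v = p.1.2 0 := by
            simp [polar_add_left, polar_smul_left, hvv, polar_comm (⇑Q) w v, hvw, hu.2]
          refine Prod.ext (Prod.ext (funext fun l => ?_) (funext fun l => ?_)) (Subtype.ext ?_)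
          · rw [Subsingleton.elim l 0]; exact h5
          · rw [Subsingleton.elim l 0]; exact h6
          · change _ - _ • v - _ • w = _
            rw [h5, h6, sub_sub, add_sub_cancel_left] }
    have hsum : Q.Equivalent ((hyp F 1).prod Q') := by
      refine ⟨⟨e, fun x => ?_⟩⟩
      set u := x - polar Q x w • v - polar Q x v • w with hudef
      have hu : polar Q u w = 0 ∧ polar Q u v = 0 := hmemU _ (hmem x)
      have hx : x = polar Q x w • v + polar Q x v • w + u := by rw [hudef]; abel
      change hyp F 1 ((fun _ => polar Q x w), fun _ => polar Q x v) + Q u = Q x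
      rw [hyp_apply, Fin.sum_univ_one]
      conv_rhs => rw [hx]
      simp only [QuadraticMap.map_add (⇑Q), QuadraticMap.map_smul, polar_add_left, polar_smul_left,
        polar_smul_right, hv, hww, hvw, polar_comm (⇑Q) v u, polar_comm (⇑Q) w u, hu.1, hu.2, smul_eq_mul]
      ring
    have hnd' : (polarBilin Q').Nondegenerate := by
      have key : ∀ u : U, (∀ u' : U, polar Q' u u' = 0) → u = 0 := by
        intro u hu
        refine Subtype.ext (hnd.1 _ fun x => ?_)
        have huu : polar Q u w = 0 ∧ polar Q u v = 0 := hmemU _ u.2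
        have h := hu ⟨_, hmem x⟩
        simp only [Q', polar, QuadraticMap.comp_apply, map_add] at h
        change polar Q (u : V) (x - polar Q x w • v - polar Q x v • w) = 0 at h
        simpa [polar_sub_right, polar_smul_right, huu.1, huu.2] using h
      exact ⟨fun u hu => key u hu, fun u hu => key u fun u' => by rw [polar_comm]; exact hu u'⟩
    have hdim : finrank F U = 2 * (k + 1) := by
      have := e.finrank_eq
      simp [Module.finrank_prod] at this
      omega
    have hL' : NoLagrangian Q' := by
      intro W hts hperp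
      refine noLagrangian_congr hsum hL
        (((⊤ : Submodule F (Fin 1 → F)).prod (⊥ : Submodule F (Fin 1 → F))).prod W) ?_ ?_
      · rintro ⟨⟨x, y⟩, u⟩ hm
        obtain ⟨⟨-, hy⟩, hu⟩ := hm
        have hy0 : y = 0 := hy
        simp [hyp_apply, hy0, hts u hu]
      · rintro ⟨⟨x, y⟩, u⟩ hm
        refine ⟨⟨trivial, ?_⟩, hperp u fun u' hu' => ?_⟩
        · have h := hm ((fun _ => 1, 0), 0) ⟨⟨trivial, rfl⟩, W.zero_mem⟩
          simp [hyp_polar] at h
          exact funext fun l => by rw [Subsingleton.elim l 0]; exact h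
        · have h := hm (0, u') ⟨⟨trivial, rfl⟩, hu'⟩
          simpa using h
    refine hsum.trans (((QuadraticMap.Equivalent.refl _).prod (ih Q' hnd' hdim hL')).trans ?_)
    refine (prod_assoc _ _ _).symm.trans (Equivalent.prod ?_ (Equivalent.refl _))
    exact ((hyp_add 1 k).symm).trans (by rw [add_comm 1 k])

end CfsgLib.OrthTwo
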