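import Cfsg.Agent.OrthTwo.Parity

/-!
# Orders of isometries of orthogonal sums

`IsoOrder Q N`: some isometry of `Q` has order `N`.  `LiftOrder Q N`: some isometry of order `N`
with `rank (g - 1)` even has a vector whose orbit sum is non-zero, so that `N` doubles in the affine
extension.
-/

set_option autoImplicit false

namespace CfsgLib.OrthTwo

open Module LinearMap

variable {F V W : Type*} [Field F] [AddCommGroup V] [Module F V] [AddCommGroup W] [Module F W]

/-- Some isometry of `Q` has order `N`. -/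
def IsoOrder (Q : QuadraticForm F V) (N : ℕ) : Prop := ∃ g ∈ isoGroup Q, orderOf g = N

/-- Some even isometry of order `N` doubles in the affine extension. -/
def LiftOrder (Q : QuadraticForm F V) (N : ℕ) : Prop :=
  ∃ g ∈ isoGroup Q, Even (rk g) ∧ orderOf g = N ∧ ∃ v, ∑ i ∈ Finset.range N, (g ^ i) v ≠ 0

theorem isoOrder_one (Q : QuadraticForm F V) : IsoOrder Q 1 := ⟨1, one_mem _, orderOf_one⟩

theorem isoOrder_of_dvd {Q : QuadraticForm F V} {M N : ℕ} (h : IsoOrder Q M) (hM : M ≠ 0)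
    (hNM : N ∣ M) : IsoOrder Q N := by
  obtain ⟨g, hg, rfl⟩ := h
  exact ⟨g ^ (orderOf g / N), pow_mem hg _, orderOf_pow_orderOf_div hM hNM⟩

theorem liftOrder_one (Q : QuadraticForm F V) {v : V} (hv : v ≠ 0) : LiftOrder Q 1 :=
  ⟨1, one_mem _, by rw [rk_one]; exact Even.zero, orderOf_one, v, by simpa using hv⟩

/-- Conjugation by a linear equivalence. -/
def congrHom (e : V ≃ₗ[F] W) : (V ≃ₗ[F] V) ≃* (W ≃ₗ[F] W) where
  toFun g := e.symm ≪≫ₗ g ≪≫ₗ e
  invFun g := e ≪≫ₗ g ≪≫ₗ e.symm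
  left_inv g := by ext x; simp
  right_inv g := by ext x; simp
  map_mul' g h := by ext x; simp [LinearEquiv.mul_apply]

theorem congrHom_apply (e : V ≃ₗ[F] W) (g : V ≃ₗ[F] V) (x : W) :
    congrHom e g x = e (g (e.symm x)) := rfl

theorem rk_congrHom (e : V ≃ₗ[F] W) (g : V ≃ₗ[F] V) : rk (congrHom e g) = rk g := by
  have h : sub1 (congrHom e g) = e.toLinearMap ∘ₗ sub1 g ∘ₗ e.symm.toLinearMap := by
    ext x
    simp [sub1_apply, congrHom_apply]
  rw [rk, rk, h, LinearMap.range_comp, LinearMap.range_comp, LinearEquiv.range, Submodule.map_top]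
  exact LinearEquiv.finrank_map_eq e _

theorem congrHom_mem {Q : QuadraticForm F V} {Q' : QuadraticForm F W} (e : Q.IsometryEquiv Q')
    {g : V ≃ₗ[F] V} (hg : g ∈ isoGroup Q) : congrHom e.toLinearEquiv g ∈ isoGroup Q' := by
  intro x
  change Q' (e (g (e.symm x))) = Q' x
  rw [e.map_app, hg, e.symm.map_app]

theorem IsoOrder.congr {Q : QuadraticForm F V} {Q' : QuadraticForm F W} {N : ℕ}
    (he : Q.Equivalent Q') (h : IsoOrder Q N) : IsoOrder Q' N := by
  obtain ⟨e⟩ := he
  obtain ⟨g, hg, rfl⟩ := h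
  exact ⟨congrHom e.toLinearEquiv g, congrHom_mem e hg, MulEquiv.orderOf_eq _ g⟩

theorem LiftOrder.congr {Q : QuadraticForm F V} {Q' : QuadraticForm F W} {N : ℕ}
    (he : Q.Equivalent Q') (h : LiftOrder Q N) : LiftOrder Q' N := by
  obtain ⟨e⟩ := he
  obtain ⟨g, hg, heven, hN, v, hv⟩ := h
  refine ⟨congrHom e.toLinearEquiv g, congrHom_mem e hg, by rwa [rk_congrHom],
    by rw [MulEquiv.orderOf_eq, hN], e v, fun hsum => hv ?_⟩
  apply e.toLinearEquiv.injective
  rw [map_zero, map_sum]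
  refine Eq.trans (Finset.sum_congr rfl fun i _ => ?_) hsum
  rw [← map_pow, congrHom_apply]
  exact congrArg (fun y => e.toLinearEquiv ((g ^ i) y)) (e.toLinearEquiv.symm_apply_apply v).symm

/-- The action of a pair on a direct sum. -/
def prodHom : (V ≃ₗ[F] V) × (W ≃ₗ[F] W) →* ((V × W) ≃ₗ[F] (V × W)) where
  toFun g := g.1.prodCongr g.2
  map_one' := by ext x <;> simp
  map_mul' g h := by ext x <;> simp [LinearEquiv.mul_apply]

theorem prodHom_injective : Function.Injective (prodHom : _ →* ((V × W) ≃ₗ[F] (V × W))) := by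
  intro g h hgh
  refine Prod.ext (LinearEquiv.ext fun x => ?_) (LinearEquiv.ext fun y => ?_)
  · exact congrArg Prod.fst (LinearEquiv.congr_fun hgh (x, 0))
  · exact congrArg Prod.snd (LinearEquiv.congr_fun hgh (0, y))

theorem prodHom_mem {Q : QuadraticForm F V} {Q' : QuadraticForm F W} {g : V ≃ₗ[F] V}
    {h : W ≃ₗ[F] W} (hg : g ∈ isoGroup Q) (hh : h ∈ isoGroup Q') :
    prodHom (g, h) ∈ isoGroup (Q.prod Q') := by
  rintro ⟨x, y⟩
  change Q.prod Q' (g x, h y) = Q.prod Q' (x, y)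
  rw [QuadraticMap.prod_apply, QuadraticMap.prod_apply, hg, hh]

theorem orderOf_prodHom (g : V ≃ₗ[F] V) (h : W ≃ₗ[F] W) :
    orderOf (prodHom (g, h)) = (orderOf g).lcm (orderOf h) := by
  rw [orderOf_injective _ prodHom_injective, Prod.orderOf]

theorem rk_prodHom [FiniteDimensional F V] [FiniteDimensional F W] (g : V ≃ₗ[F] V) (h : W ≃ₗ[F] W) :
    rk (prodHom (g, h)) = rk g + rk h := by
  have e : sub1 (prodHom (g, h)) = (sub1 g).prodMap (sub1 h) := LinearMap.ext fun x =>
    Prod.ext rfl rfl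
  rw [rk, e, LinearMap.range_prodMap]
  let e' : ↥((range (sub1 g)).prod (range (sub1 h))) ≃ₗ[F] range (sub1 g) × range (sub1 h) :=
    { toFun := fun x => (⟨x.1.1, x.2.1⟩, ⟨x.1.2, x.2.2⟩)
      invFun := fun y => ⟨(y.1.1, y.2.1), y.1.2, y.2.2⟩
      left_inv := fun _ => rfl
      right_inv := fun _ => rfl
      map_add' := fun _ _ => rfl
      map_smul' := fun _ _ => rfl }
  rw [e'.finrank_eq, Module.finrank_prod]
  rfl

theorem IsoOrder.prod {Q : QuadraticForm F V} {Q' : QuadraticForm F W} {M N : ℕ}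
    (h : IsoOrder Q M) (h' : IsoOrder Q' N) : IsoOrder (Q.prod Q') (M.lcm N) := by
  obtain ⟨g, hg, rfl⟩ := h
  obtain ⟨g', hg', rfl⟩ := h'
  exact ⟨prodHom (g, g'), prodHom_mem hg hg', orderOf_prodHom g g'⟩

theorem IsoOrder.prod_mul {Q : QuadraticForm F V} {Q' : QuadraticForm F W} {M N : ℕ}
    (h : IsoOrder Q M) (h' : IsoOrder Q' N) (hc : M.Coprime N) : IsoOrder (Q.prod Q') (M * N) := by
  have := h.prod h'
  rwa [hc.lcm_eq_mul] at this

/-- A lifting element and a commuting element of odd order combine. -/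
theorem LiftOrder.prod [CharP F 2] [FiniteDimensional F V] [FiniteDimensional F W]
    {Q : QuadraticForm F V} {Q' : QuadraticForm F W}
    (hnd : (QuadraticMap.polarBilin (Q.prod Q')).Nondegenerate) (hL : NoLagrangian (Q.prod Q'))
    {M e : ℕ} (h : IsoOrder Q M) (hM : Odd M) (h' : LiftOrder Q' (2 ^ e)) :
    LiftOrder (Q.prod Q') (2 ^ e * M) := by
  obtain ⟨g, hg, hgM⟩ := h
  obtain ⟨u, hu, hueven, huN, v, hv⟩ := h'
  have hg1 : prodHom (g, 1) ∈ isoGroup (Q.prod Q') := prodHom_mem hg (one_mem _)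
  have hev := (mem_evenGroup_of_odd_pow (Q := Q.prod Q') (hnd := hnd) (hL := hL) hg1 hM (by
    rw [← map_pow, Prod.pow_mk, ← hgM, pow_orderOf_eq_one, one_pow]
    exact map_one _)).2
  rw [rk_prodHom, rk_one, add_zero] at hev
  refine ⟨prodHom (g, u), prodHom_mem hg hu, by rw [rk_prodHom]; exact hev.add hueven, ?_, (0, v),
    fun hsum => hv ?_⟩
  · rw [orderOf_prodHom, hgM, huN, Nat.Coprime.lcm_eq_mul, mul_comm]
    exact ((Nat.prime_two.coprime_iff_not_dvd.2 (by rw [← even_iff_two_dvd]; exact Nat.not_even_iff_odd.2 hM)).pow_left e).symm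
  · have h2 := congrArg Prod.snd hsum
    rw [Prod.snd_sum, Prod.snd_zero] at h2
    have h3 : ∀ i, ((prodHom (g, u) ^ i) (0, v)).2 = (u ^ i) v := fun i => by
      rw [← map_pow, Prod.pow_mk]; rfl
    simp only [h3] at h2
    -- the sum over `2 ^ e * M` terms is `M` times the sum over `2 ^ e` terms
    have hper : ∀ K : ℕ, ∑ i ∈ Finset.range (2 ^ e * K), (u ^ i) v =
        K • ∑ i ∈ Finset.range (2 ^ e), (u ^ i) v := by
      intro K
      induction K with
      | zero => simp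
      | succ K ih =>
        rw [mul_add, mul_one, Finset.sum_range_add, ih, succ_nsmul]
        congr 1
        refine Finset.sum_congr rfl fun i _ => ?_
        rw [pow_add, pow_mul, ← huN, pow_orderOf_eq_one, one_pow, one_mul]
    rw [hper] at h2
    have hM1 : (M : F) = 1 := by
      obtain ⟨k, rfl⟩ := hM
      push_cast
      rw [CharTwo.two_eq_zero, zero_mul, zero_add]
    rwa [← Nat.cast_smul_eq_nsmul F, hM1, one_smul] at h2

end CfsgLib.OrthTwo
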