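import Cfsg.Agent.OrthTwo.Witness
import Cfsg.Agent.SympOrders.Basic

/-!
# Element orders of `PSp (8, q)`, `GO⁻ (8, q)` and the affine group over the even isometries

In even characteristic all three sets of element orders equal `SpecList q`.
-/

set_option autoImplicit false

namespace CfsgLib.OrthTwo

open Module QuadraticMap Matrix

variable {F : Type*} [Field F] {a b : F}

local notation "q" => Fintype.card F

/-- The space of the eight-dimensional minus form. -/
abbrev MSpace (F : Type*) : Type _ := ((Fin 3 → F) × (Fin 3 → F)) × (F × F)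

/-- The eight-dimensional minus form. -/
noncomputable abbrev mform (a b : F) : QuadraticForm F (MSpace F) := (hyp F 3).prod (bin a b)

theorem finrank_mspace : finrank F (MSpace F) = 8 := by simp [Module.finrank_prod]

theorem orderOf_toLinearMap {V : Type*} [AddCommGroup V] [Module F V] (g : V ≃ₗ[F] V) :
    orderOf (g.toLinearMap : Module.End F V) = orderOf g :=
  orderOf_injective
    ({ toFun := fun g => g.toLinearMap, map_one' := rfl, map_mul' := fun _ _ => rfl } :
      (V ≃ₗ[F] V) →* Module.End F V) LinearEquiv.toLinearMap_injective g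

section Matrices

/-- The coordinates of the matrix version of the minus form. -/
def coords (F : Type*) [Field F] : ((Fin 3 ⊕ Fin 3) ⊕ Fin 2 → F) ≃ₗ[F] MSpace F where
  toFun v := ((fun i => v (.inl (.inl i)), fun i => v (.inl (.inr i))), (v (.inr 0), v (.inr 1)))
  map_add' _ _ := rfl
  map_smul' _ _ := rfl
  invFun w := Sum.elim (Sum.elim w.1.1 w.1.2) ![w.2.1, w.2.2]
  left_inv v := funext fun i => by
    rcases i with (i | i) | i
    · rfl
    · rfl
    · fin_cases i <;> rfl
  right_inv w := rfl

theorem coords_form (v : (Fin 3 ⊕ Fin 3) ⊕ Fin 2 → F) :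
    mform a b (coords F v) = Cfsg.quadFormMinus 3 F a b v := by
  rw [mform, QuadraticMap.prod_apply, hyp_apply, bin_apply]
  rfl

/-- Matrices as linear equivalences of the minus space. -/
noncomputable def glEquiv (F : Type*) [Field F] :
    GL ((Fin 3 ⊕ Fin 3) ⊕ Fin 2) F ≃* (MSpace F ≃ₗ[F] MSpace F) :=
  (Matrix.GeneralLinearGroup.toLin.trans (LinearMap.GeneralLinearGroup.generalLinearEquiv F _)).trans
    (congrHom (coords F))

theorem glEquiv_mem_iff (g : GL ((Fin 3 ⊕ Fin 3) ⊕ Fin 2) F) :
    glEquiv F g ∈ isoGroup (mform a b) ↔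
      g ∈ Cfsg.isometryGroup F (Cfsg.quadFormMinus 3 F a b) := by
  have h : ∀ v, glEquiv F g (coords F v) = coords F ((g : Matrix _ _ F) *ᵥ v) := fun v => rfl
  constructor
  · intro hg u _
    change Cfsg.quadFormMinus 3 F a b ((g : Matrix _ _ F) *ᵥ u) = Cfsg.quadFormMinus 3 F a b u
    rw [← coords_form, ← coords_form, ← h]
    exact hg _
  · intro hg x
    obtain ⟨v, rfl⟩ := (coords F).surjective x
    rw [h, coords_form, coords_form]
    exact hg v 0

end Matrices

variable [CharP F 2]

section Symplectic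

/-- A basis in which the polar form of the minus form is the standard symplectic form. -/
noncomputable def sympCoords (ha : a ≠ 0) : MSpace F ≃ₗ[F] (Fin 4 ⊕ Fin 4 → F) where
  toFun w := Sum.elim (Fin.snoc w.1.1 w.2.1) (Fin.snoc w.1.2 (a * w.2.2))
  map_add' s t := funext fun i => by
    rcases i with i | i <;> induction i using Fin.lastCases <;> simp [mul_add, -Fin.reduceLast]
  map_smul' c t := funext fun i => by
    rcases i with i | i <;> induction i using Fin.lastCases <;> simp [mul_left_comm, -Fin.reduceLast]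
  invFun u := ((fun i => u (.inl i.castSucc), fun i => u (.inr i.castSucc)),
    (u (.inl (Fin.last 3)), a⁻¹ * u (.inr (Fin.last 3))))
  left_inv w := by
    refine Prod.ext (Prod.ext (funext fun i => ?_) (funext fun i => ?_)) (Prod.ext ?_ ?_) <;>
      simp [ha, -Fin.reduceLast]
  right_inv u := funext fun i => by
    rcases i with i | i <;> induction i using Fin.lastCases <;> simp [ha, -Fin.reduceLast]

/-- The standard symplectic form. -/
noncomputable def sympForm (F : Type*) [Field F] : LinearMap.BilinForm F (Fin 4 ⊕ Fin 4 → F) :=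
  Matrix.toBilin' (Matrix.J (Fin 4) F)

theorem sympForm_apply (u v : Fin 4 ⊕ Fin 4 → F) :
    sympForm F u v = ∑ i, (u (.inl i) * v (.inr i) + u (.inr i) * v (.inl i)) := by
  have h : Matrix.J (Fin 4) F = fromBlocks 0 1 1 0 := by
    rw [Matrix.J, CharTwo.neg_eq]
  rw [sympForm, Matrix.toBilin'_apply', h]
  simp [fromBlocks_mulVec, dotProduct, Fintype.sum_sum_type, Finset.sum_add_distrib]

theorem sympForm_coords (ha : a ≠ 0) (s t : MSpace F) :
    sympForm F (sympCoords ha s) (sympCoords ha t) = polar (mform a b) s t := by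
  rw [sympForm_apply, mform, polar_prod, hyp_polar, bin_polar, Fin.sum_univ_castSucc]
  simp only [sympCoords, LinearEquiv.coe_mk, LinearMap.coe_mk, AddHom.coe_mk, Sum.elim_inl,
    Sum.elim_inr, Fin.snoc_castSucc, Fin.snoc_last, Finset.sum_add_distrib]
  congr 1
  · congr 1
    exact Finset.sum_congr rfl fun i _ => mul_comm _ _
  · ring

theorem center_sp : Subgroup.center (Matrix.symplecticGroup (Fin 4) F) = ⊥ := by
  refine (Subgroup.eq_bot_iff_forall _).2 fun g hg => ?_
  obtain ⟨c, hc⟩ := SympOrders.scalar_of_mem_center hg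
  have h := SympOrders.scalar_sq (by norm_num) hc
  have h0 : (c + 1) * (c + 1) = 0 := by
    linear_combination h + (c + 1) * (CharTwo.two_eq_zero (R := F))
  have hc1 : c = 1 := CharTwo.add_eq_zero.1 (mul_self_eq_zero.1 h0)
  exact Subtype.ext (by rw [hc, hc1, one_smul]; rfl)

theorem orderOf_mk_psp (g : Matrix.symplecticGroup (Fin 4) F) :
    orderOf (QuotientGroup.mk g : Cfsg.PSp 4 F) = orderOf (g : Matrix (Fin 4 ⊕ Fin 4) (Fin 4 ⊕ Fin 4) F) := by
  rw [orderOf_submonoid]
  refine orderOf_injective (QuotientGroup.mk' (Subgroup.center (Matrix.symplecticGroup (Fin 4) F)))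
    ((MonoidHom.ker_eq_bot_iff _).1 ?_) g
  rw [QuotientGroup.ker_mk', center_sp]

variable [Fintype F]

/-- The element orders of `PSp (8, q)`. -/
theorem range_psp (hab : Aniso a b) :
    Set.range (orderOf : Cfsg.PSp 4 F → ℕ) = {N | SpecList q N} := by
  ext N
  constructor
  · rintro ⟨x, rfl⟩
    obtain ⟨g, rfl⟩ := QuotientGroup.mk_surjective x
    rw [Set.mem_setOf_eq, orderOf_mk_psp,
      ← MulEquiv.orderOf_eq (Matrix.toLinAlgEquiv' (R := F) (n := Fin 4 ⊕ Fin 4)).toMulEquiv]
    refine specList_orderOf (sympForm F)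
      (LinearMap.BilinForm.nondegenerate_toBilin'_iff_det_ne_zero.2
        (Matrix.isUnit_det_J _ _).ne_zero) (by simp) _ fun x y => ?_
    have h := SymplecticGroup.mem_iff'.1 g.2
    calc sympForm F ((g : Matrix _ _ F) *ᵥ x) ((g : Matrix _ _ F) *ᵥ y)
        = Matrix.toBilin' ((g : Matrix _ _ F)ᵀ * Matrix.J (Fin 4) F * (g : Matrix _ _ F)) x y := by
          rw [← Matrix.toBilin'_comp]; rfl
      _ = sympForm F x y := by rw [h]; rfl
  · intro hN
    obtain ⟨M, hNM, hM, hiso⟩ := isoOrder_max hab hN
    obtain ⟨g, hg, rfl⟩ := isoOrder_of_dvd hiso hM hNM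
    let e := sympCoords (F := F) hab.ne_zero
    let f : Module.End F (Fin 4 ⊕ Fin 4 → F) := (congrHom e g).toLinearMap
    set A := LinearMap.toMatrixAlgEquiv' f with hA
    have hmem : A ∈ Matrix.symplecticGroup (Fin 4) F := by
      rw [SymplecticGroup.mem_iff']
      apply Matrix.toBilin'.injective
      rw [← Matrix.toBilin'_comp]
      refine LinearMap.ext fun x => LinearMap.ext fun y => ?_
      change sympForm F (Matrix.toLin' A x) (Matrix.toLin' A y) = sympForm F x y
      have hAf : Matrix.toLin' A = f := Matrix.toLin'_toMatrix' f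
      rw [hAf]
      obtain ⟨s, rfl⟩ := e.surjective x
      obtain ⟨t, rfl⟩ := e.surjective y
      change sympForm F (e (g (e.symm (e s)))) (e (g (e.symm (e t)))) = _
      rw [e.symm_apply_apply, e.symm_apply_apply, sympForm_coords hab.ne_zero (b := b),
        sympForm_coords hab.ne_zero (b := b), polar_apply _ hg]
    refine ⟨QuotientGroup.mk ⟨A, hmem⟩, ?_⟩
    rw [orderOf_mk_psp]
    change orderOf A = _
    rw [hA]
    exact (MulEquiv.orderOf_eq LinearMap.toMatrixAlgEquiv'.toMulEquiv f).trans
      ((orderOf_toLinearMap _).trans (MulEquiv.orderOf_eq (congrHom e) g))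

/-- The element orders of the isometry group of the minus form. -/
theorem range_isometry (hab : Aniso a b) :
    Set.range (orderOf : ↥(Cfsg.isometryGroup F (Cfsg.quadFormMinus 3 F a b)) → ℕ) =
      {N | SpecList q N} := by
  have hnd : (polarBilin (mform a b)).Nondegenerate :=
    prod_nondeg (hyp_nondeg 3) (bin_nondeg hab.ne_zero b)
  ext N
  constructor
  · rintro ⟨x, rfl⟩
    rw [Set.mem_setOf_eq, ← Subgroup.orderOf_coe, ← MulEquiv.orderOf_eq (glEquiv F),
      ← orderOf_toLinearMap]
    exact specList_orderOf (polarBilin (mform a b)) hnd finrank_mspace _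
      (polar_apply _ ((glEquiv_mem_iff _).2 x.2))
  · intro hN
    obtain ⟨M, hNM, hM, hiso⟩ := isoOrder_max hab hN
    obtain ⟨g, hg, rfl⟩ := isoOrder_of_dvd hiso hM hNM
    refine ⟨⟨(glEquiv F).symm g, (glEquiv_mem_iff _).1 (by rwa [MulEquiv.apply_symm_apply])⟩, ?_⟩
    rw [Subgroup.orderOf_mk, MulEquiv.orderOf_eq]

end Symplectic

section Affine

variable {V : Type*} [AddCommGroup V] [Module F V] (X : Subgroup (V ≃ₗ[F] V))

/-- The linear action on the translation group. -/
def affAction : X →* MulAut (Multiplicative V) where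
  toFun x := AddEquiv.toMultiplicative x.1.toAddEquiv
  map_one' := MulEquiv.ext fun _ => rfl
  map_mul' _ _ := MulEquiv.ext fun _ => rfl

omit [CharP F 2] in
theorem aff_pow (v : V) (g : X) (n : ℕ) :
    ((⟨Multiplicative.ofAdd v, g⟩ : Multiplicative V ⋊[affAction X] X) ^ n).left =
      Multiplicative.ofAdd (∑ i ∈ Finset.range n, ((g : V ≃ₗ[F] V) ^ i) v) ∧
    ((⟨Multiplicative.ofAdd v, g⟩ : Multiplicative V ⋊[affAction X] X) ^ n).right = g ^ n := by
  induction n with
  | zero => exact ⟨rfl, rfl⟩
  | succ n ih =>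
    refine ⟨?_, by rw [pow_succ, SemidirectProduct.mul_right, ih.2, pow_succ]⟩
    rw [pow_succ, SemidirectProduct.mul_left, ih.1, ih.2, Finset.sum_range_succ, ofAdd_add]
    rfl

theorem aff_pow_eq_one_iff (v : V) (g : X) :
    (⟨Multiplicative.ofAdd v, g⟩ : Multiplicative V ⋊[affAction X] X) ^ orderOf g = 1 ↔
      ∑ i ∈ Finset.range (orderOf g), ((g : V ≃ₗ[F] V) ^ i) v = 0 := by
  rw [SemidirectProduct.ext_iff, (aff_pow X v g _).1, (aff_pow X v g _).2, pow_orderOf_eq_one,
    SemidirectProduct.one_left, SemidirectProduct.one_right, ofAdd_eq_one]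
  exact and_iff_left rfl

theorem orderOf_aff (v : V) (g : X) :
    orderOf (⟨Multiplicative.ofAdd v, g⟩ : Multiplicative V ⋊[affAction X] X) = orderOf g ∧
      ∑ i ∈ Finset.range (orderOf g), ((g : V ≃ₗ[F] V) ^ i) v = 0 ∨
    orderOf (⟨Multiplicative.ofAdd v, g⟩ : Multiplicative V ⋊[affAction X] X) = 2 * orderOf g ∧
      ∑ i ∈ Finset.range (orderOf g), ((g : V ≃ₗ[F] V) ^ i) v ≠ 0 := by
  set x : Multiplicative V ⋊[affAction X] X := ⟨Multiplicative.ofAdd v, g⟩
  have hdvd : orderOf g ∣ orderOf x := orderOf_map_dvd SemidirectProduct.rightHom x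
  by_cases h : ∑ i ∈ Finset.range (orderOf g), ((g : V ≃ₗ[F] V) ^ i) v = 0
  · exact Or.inl ⟨Nat.dvd_antisymm (orderOf_dvd_of_pow_eq_one ((aff_pow_eq_one_iff X v g).2 h)) hdvd, h⟩
  · refine Or.inr ⟨?_, h⟩
    have h2 : x ^ (2 * orderOf g) = 1 := by
      rw [mul_comm, pow_mul, pow_two]
      refine SemidirectProduct.ext ?_ ?_
      · rw [SemidirectProduct.mul_left, (aff_pow X v g _).1, (aff_pow X v g _).2, pow_orderOf_eq_one,
          map_one, MulAut.one_apply, SemidirectProduct.one_left, ← ofAdd_add,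
          add_self_zero (F := F), ofAdd_zero]
      · rw [SemidirectProduct.mul_right, (aff_pow X v g _).2, pow_orderOf_eq_one, mul_one,
          SemidirectProduct.one_right]
    obtain ⟨j, hj⟩ := hdvd
    have hne : j ≠ 1 := fun hj1 => h <| (aff_pow_eq_one_iff X v g).1 <| by
      rw [show orderOf g = orderOf x by rw [hj, hj1, mul_one]]
      exact pow_orderOf_eq_one x
    rcases Nat.eq_zero_or_pos (orderOf g) with h0 | h0
    · rw [hj, h0, zero_mul, mul_zero]
    · have hj2 : j ∣ 2 := by
        have := orderOf_dvd_of_pow_eq_one h2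
        rw [hj, mul_comm 2] at this
        exact Nat.dvd_of_mul_dvd_mul_left h0 this
      rcases (Nat.dvd_prime Nat.prime_two).1 hj2 with rfl | rfl
      · exact absurd rfl hne
      · rw [hj, mul_comm]

variable [Fintype F]

/-- The element orders of the affine group over the even isometries of the minus form. -/
theorem range_affine (hab : Aniso a b) (hnd : (polarBilin (mform a b)).Nondegenerate)
    (hL : NoLagrangian (mform a b)) :
    Set.range (orderOf : Multiplicative (MSpace F) ⋊[affAction (evenGroup (mform a b) hnd hL)]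
      evenGroup (mform a b) hnd hL → ℕ) = {N | SpecList q N} := by
  set X := evenGroup (mform a b) hnd hL
  ext N
  constructor
  · rintro ⟨⟨v, g⟩, rfl⟩
    obtain ⟨v, rfl⟩ := Multiplicative.ofAdd.surjective v
    have hg := (mem_evenGroup (hnd := hnd) (hL := hL)).1 g.2
    rcases orderOf_aff X v g with ⟨h, -⟩ | ⟨h, hs⟩
    · rw [Set.mem_setOf_eq, h, ← Subgroup.orderOf_coe, ← orderOf_toLinearMap]
      exact specList_orderOf (polarBilin (mform a b)) hnd finrank_mspace _ (polar_apply _ hg.1)
    · rw [Set.mem_setOf_eq, h, ← Subgroup.orderOf_coe, ← orderOf_toLinearMap]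
      refine specList_two_mul (polarBilin (mform a b)) hnd finrank_mspace _ (polar_apply _ hg.1) hg.2
        fun h0 => hs ?_
      have := LinearMap.congr_fun h0 v
      rw [LinearMap.sum_apply, orderOf_toLinearMap, Subgroup.orderOf_coe] at this
      simpa only [← coe_pow_equiv, LinearEquiv.coe_coe, LinearMap.zero_apply] using this
  · intro hN
    obtain ⟨M, hNM, hM, hcase⟩ := affine_max hab hN
    suffices ∃ x : Multiplicative (MSpace F) ⋊[affAction X] X, orderOf x = M by
      obtain ⟨x, rfl⟩ := this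
      exact ⟨x ^ (orderOf x / N), orderOf_pow_orderOf_div hM hNM⟩
    rcases hcase with ⟨⟨g, hg, rfl⟩, hodd⟩ | ⟨L, rfl, g, hg, heven, rfl, v, hv⟩
    · refine ⟨SemidirectProduct.inr ⟨g, mem_evenGroup_of_odd_pow (Q := mform a b) (hnd := hnd) (hL := hL) hg hodd
        (pow_orderOf_eq_one g)⟩, ?_⟩
      rw [orderOf_injective _ SemidirectProduct.inr_injective, Subgroup.orderOf_mk]
    · refine ⟨⟨Multiplicative.ofAdd v, ⟨g, hg, heven⟩⟩, ?_⟩
      rcases orderOf_aff X v ⟨g, hg, heven⟩ with ⟨-, h⟩ | ⟨h, -⟩
      · rw [← Subgroup.orderOf_coe] at h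
        exact absurd h hv
      · rw [h, ← Subgroup.orderOf_coe]

end Affine

end CfsgLib.OrthTwo
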