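import Mathlib

/-!
# The parity of `rank (g - 1)` on orthogonal groups in characteristic two

For a quadratic form `Q` with non-degenerate polar form in characteristic two, multiplying an
isometry by a reflection changes `rank (g - 1)` by exactly one.  If no totally singular subspace
is its own orthogonal, every isometry is a product of reflections, so the parity of `rank (g - 1)`
is multiplicative (the Dickson invariant).
-/

set_option autoImplicit false

namespace CfsgLib.OrthTwo

open Module LinearMap Submodule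

variable {F V : Type*} [Field F] [AddCommGroup V] [Module F V]

/-- The isometries of `Q`, as linear equivalences. -/
def isoGroup (Q : QuadraticForm F V) : Subgroup (V ≃ₗ[F] V) where
  carrier := {g | ∀ x, Q (g x) = Q x}
  one_mem' := fun _ => rfl
  mul_mem' := fun {a b} ha hb x => by
    change Q (a (b x)) = Q x
    rw [ha, hb]
  inv_mem' := fun {a} ha x => by
    conv_rhs => rw [← a.apply_symm_apply x, ha]
    rfl

/-- `g - 1`. -/
def sub1 (g : V ≃ₗ[F] V) : V →ₗ[F] V := g.toLinearMap - LinearMap.id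

theorem sub1_apply (g : V ≃ₗ[F] V) (x : V) : sub1 g x = g x - x := rfl

/-- `rank (g - 1)`. -/
noncomputable def rk (g : V ≃ₗ[F] V) : ℕ := finrank F (range (sub1 g))

theorem rk_one : rk (1 : V ≃ₗ[F] V) = 0 := by
  have : sub1 (1 : V ≃ₗ[F] V) = 0 := LinearMap.ext fun x => by simp [sub1_apply]
  rw [rk, this, LinearMap.range_zero, finrank_bot]

variable (Q : QuadraticForm F V)

theorem polar_apply {g : V ≃ₗ[F] V} (hg : g ∈ isoGroup Q) (x y : V) :
    QuadraticMap.polar Q (g x) (g y) = QuadraticMap.polar Q x y := by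
  simp only [QuadraticMap.polar, ← map_add, hg x, hg y, hg (x + y)]

/-- The reflection in an anisotropic vector. -/
noncomputable def refl (v : V) (hv : Q v ≠ 0) : V ≃ₗ[F] V :=
  LinearEquiv.ofInvolutive
    { toFun := fun x => x - (QuadraticMap.polar Q x v / Q v) • v
      map_add' := fun x y => by
        rw [QuadraticMap.polar_add_left, add_div, add_smul]
        abel
      map_smul' := fun c x => by
        rw [QuadraticMap.polar_smul_left, smul_eq_mul, mul_div_assoc, RingHom.id_apply, smul_sub, smul_smul] }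
    (fun x => by
      simp only [LinearMap.coe_mk, AddHom.coe_mk]
      rw [QuadraticMap.polar_sub_left, QuadraticMap.polar_smul_left, QuadraticMap.polar_self,
        smul_eq_mul, nsmul_eq_mul, sub_sub, ← add_smul]
      have : QuadraticMap.polar Q x v / Q v + (QuadraticMap.polar Q x v -
          QuadraticMap.polar Q x v / Q v * ((2 : ℕ) * Q v)) / Q v = 0 := by
        field_simp
        ring
      rw [this, zero_smul, sub_zero])

theorem refl_apply (v : V) (hv : Q v ≠ 0) (x : V) :
    refl Q v hv x = x - (QuadraticMap.polar Q x v / Q v) • v := rfl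

theorem refl_mem (v : V) (hv : Q v ≠ 0) : refl Q v hv ∈ isoGroup Q := by
  intro x
  rw [refl_apply, sub_eq_add_neg, ← neg_smul, QuadraticMap.map_add (⇑Q), QuadraticMap.map_smul,
    QuadraticMap.polar_smul_right]
  simp only [smul_eq_mul]
  field_simp
  ring

theorem refl_mul_self (v : V) (hv : Q v ≠ 0) : refl Q v hv * refl Q v hv = 1 :=
  LinearEquiv.ext fun x => by
    change refl Q v hv (refl Q v hv x) = x
    exact (refl Q v hv).symm_apply_apply x

/-- An isometry is fixed exactly on the orthogonal of the image of `g - 1`. -/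
theorem fixed_iff (hnd : (QuadraticMap.polarBilin Q).Nondegenerate) {g : V ≃ₗ[F] V}
    (hg : g ∈ isoGroup Q) (x : V) :
    g x = x ↔ ∀ w ∈ range (sub1 g), QuadraticMap.polar Q x w = 0 := by
  constructor
  · rintro hx _ ⟨z, rfl⟩
    rw [sub1_apply, QuadraticMap.polar_sub_right]
    conv_lhs => arg 1; rw [← hx, polar_apply Q hg]
    exact sub_self _
  · intro h
    refine sub_eq_zero.1 (hnd.1 _ fun y => ?_)
    obtain ⟨z, rfl⟩ := g.surjective y
    have h1 := h _ ⟨z, rfl⟩
    rw [sub1_apply, QuadraticMap.polar_sub_right, sub_eq_zero] at h1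
    rw [QuadraticMap.polarBilin_apply_apply, QuadraticMap.polar_sub_left, polar_apply Q hg, h1,
      sub_self]

variable [FiniteDimensional F V]

theorem range_mul_refl_le (g : V ≃ₗ[F] V) (v : V) (hv : Q v ≠ 0) :
    range (sub1 (g * refl Q v hv)) ≤ range (sub1 g) ⊔ span F {g v} := by
  rintro _ ⟨x, rfl⟩
  have : sub1 (g * refl Q v hv) x = sub1 g x + (-(QuadraticMap.polar Q x v / Q v)) • g v := by
    simp only [sub1_apply, LinearEquiv.mul_apply, refl_apply, map_sub, map_smul, neg_smul]
    abel
  rw [this]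
  exact add_mem_sup ⟨x, rfl⟩ (smul_mem _ _ (subset_span rfl))

theorem rk_mul_refl_le (g : V ≃ₗ[F] V) (v : V) (hv : Q v ≠ 0) :
    rk (g * refl Q v hv) ≤ rk g + 1 := by
  refine (finrank_mono (range_mul_refl_le Q g v hv)).trans ?_
  refine (finrank_add_le_finrank_add_finrank _ _).trans ?_
  have := (finrank_span_le_card (R := F) ({g v} : Set V)).trans (by simp : ({g v} : Set V).toFinset.card ≤ 1)
  simpa [rk] using this

theorem rk_lt_of_fixed {g h : V ≃ₗ[F] V} (hsub : ∀ x, g x = x → h x = x)
    (hne : ∃ x, h x = x ∧ g x ≠ x) : rk h < rk g := by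
  obtain ⟨x, hx, hxg⟩ := hne
  have hlt : ker (sub1 g) < ker (sub1 h) := by
    refine lt_of_le_of_ne (fun y hy => ?_) ?_
    · rw [LinearMap.mem_ker, sub1_apply, sub_eq_zero] at hy ⊢
      exact hsub y hy
    · intro heq
      have : x ∈ ker (sub1 g) := heq ▸ (by rw [LinearMap.mem_ker, sub1_apply, hx, sub_self])
      rw [LinearMap.mem_ker, sub1_apply, sub_eq_zero] at this
      exact hxg this
  have h1 := finrank_lt_finrank_of_lt hlt
  have h2 := (sub1 g).finrank_range_add_finrank_ker
  have h3 := (sub1 h).finrank_range_add_finrank_ker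
  simp only [rk]
  omega

theorem rk_mul_refl_of_mem (hnd : (QuadraticMap.polarBilin Q).Nondegenerate) {g : V ≃ₗ[F] V}
    (hg : g ∈ isoGroup Q) (v : V) (hv : Q v ≠ 0) (hmem : v ∈ range (sub1 g)) :
    rk (g * refl Q v hv) + 1 = rk g := by
  have hle := rk_mul_refl_le Q (g * refl Q v hv) v hv
  rw [mul_assoc, refl_mul_self, mul_one] at hle
  obtain ⟨z, hz⟩ := hmem
  rw [sub1_apply, sub_eq_iff_eq_add] at hz
  have hlt : rk (g * refl Q v hv) < rk g := by
    refine rk_lt_of_fixed (fun x hx => ?_) ⟨g z, ?_, ?_⟩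
    · have h0 : QuadraticMap.polar Q x v = 0 :=
        (fixed_iff Q hnd hg x).1 hx v ⟨z, by rw [sub1_apply, hz, add_sub_cancel_right]⟩
      rw [LinearEquiv.mul_apply, refl_apply, h0, zero_div, zero_smul, sub_zero, hx]
    · have hb : QuadraticMap.polar Q (g z) v = Q v := by
        have h1 := hg z
        rw [hz, add_comm, QuadraticMap.map_add (⇑Q)] at h1
        rw [hz, QuadraticMap.polar_add_left, QuadraticMap.polar_self, nsmul_eq_mul]
        push_cast
        linear_combination h1
      rw [LinearEquiv.mul_apply, refl_apply, hb, div_self hv, one_smul]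
      congr 1
      rw [hz, add_sub_cancel_left]
    · intro h
      have h2 := g.injective h
      rw [hz, add_eq_right] at h2
      exact hv (by rw [h2, QuadraticMap.map_zero])
  omega

/-- The image of `g - 1` is the orthogonal of the fixed space. -/
theorem mem_range_of_forall_fixed (hnd : (QuadraticMap.polarBilin Q).Nondegenerate) {g : V ≃ₗ[F] V}
    (hg : g ∈ isoGroup Q) {v : V} (h : ∀ x, g x = x → QuadraticMap.polar Q x v = 0) :
    v ∈ range (sub1 g) := by
  let B : LinearMap.BilinForm F V := QuadraticMap.polarBilin Q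
  have hB : ∀ a b, B a b = QuadraticMap.polar Q a b := fun a b => rfl
  have hperp : B.orthogonal (range (sub1 g)) = ker (sub1 g) := by
    ext x
    simp only [LinearMap.BilinForm.mem_orthogonal_iff, LinearMap.mem_ker, sub1_apply, sub_eq_zero,
      fixed_iff Q hnd hg]
    refine forall₂_congr fun w _ => ?_
    rw [hB, QuadraticMap.polar_comm]
  have hrefl : B.IsRefl := fun a b hab => by
    rw [hB] at hab ⊢
    rwa [QuadraticMap.polar_comm]
  rw [← LinearMap.BilinForm.orthogonal_orthogonal hnd hrefl (range (sub1 g)), hperp,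
    LinearMap.BilinForm.mem_orthogonal_iff]
  intro x hx
  rw [LinearMap.mem_ker, sub1_apply, sub_eq_zero] at hx
  exact h x hx

theorem rk_mul_refl_of_not_mem (hnd : (QuadraticMap.polarBilin Q).Nondegenerate) {g : V ≃ₗ[F] V}
    (hg : g ∈ isoGroup Q) (v : V) (hv : Q v ≠ 0) (hmem : v ∉ range (sub1 g)) :
    rk (g * refl Q v hv) = rk g + 1 := by
  have hle := rk_mul_refl_le Q g v hv
  have key : ∀ x, (g * refl Q v hv) x = x → g x = x ∧ QuadraticMap.polar Q x v = 0 := by
    intro x hx
    set c := QuadraticMap.polar Q x v / Q v with hc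
    rw [LinearEquiv.mul_apply, refl_apply, ← hc, map_sub, map_smul] at hx
    have hc0 : c = 0 := by
      by_contra hc0
      apply hmem
      refine ⟨c⁻¹ • (x - c • v), ?_⟩
      rw [sub1_apply, map_smul, map_sub, map_smul, hx, ← smul_sub, sub_sub_cancel, inv_smul_smul₀ hc0]
    refine ⟨by simpa [hc0] using hx, ?_⟩
    exact (div_eq_zero_iff.1 hc0).resolve_right hv
  have hlt : rk g < rk (g * refl Q v hv) := by
    obtain ⟨x, hx, hxv⟩ : ∃ x, g x = x ∧ QuadraticMap.polar Q x v ≠ 0 := by
      by_contra! h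
      exact hmem (mem_range_of_forall_fixed Q hnd hg h)
    refine rk_lt_of_fixed (fun y hy => (key y hy).1) ⟨x, hx, fun h => hxv (key x h).2⟩
  omega

/-- Multiplying by a reflection flips the parity of `rank (g - 1)`. -/
theorem rk_mul_refl_parity (hnd : (QuadraticMap.polarBilin Q).Nondegenerate) {g : V ≃ₗ[F] V}
    (hg : g ∈ isoGroup Q) (v : V) (hv : Q v ≠ 0) :
    rk (g * refl Q v hv) % 2 = (rk g + 1) % 2 := by
  by_cases h : v ∈ range (sub1 g)
  · have := rk_mul_refl_of_mem Q hnd hg v hv h
    omega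
  · rw [rk_mul_refl_of_not_mem Q hnd hg v hv h]

theorem rk_refl (hnd : (QuadraticMap.polarBilin Q).Nondegenerate) (v : V) (hv : Q v ≠ 0) :
    rk (refl Q v hv) = 1 := by
  have := rk_mul_refl_of_not_mem Q hnd (isoGroup Q).one_mem v hv (by
    rintro ⟨x, hx⟩
    rw [sub1_apply] at hx
    exact hv (by rw [← hx]; simp))
  rwa [one_mul, rk_one, zero_add] at this

variable [CharP F 2]

/-- No totally singular subspace equals its orthogonal. -/
def NoLagrangian : Prop :=
  ∀ W : Submodule F V, (∀ w ∈ W, Q w = 0) →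
    (∀ x, (∀ w ∈ W, QuadraticMap.polar Q x w = 0) → x ∈ W) → False

theorem exists_refl_product (hnd : (QuadraticMap.polarBilin Q).Nondegenerate) (hL : NoLagrangian Q) :
    ∀ (n : ℕ) (g : V ≃ₗ[F] V), g ∈ isoGroup Q → rk g ≤ n →
      g ∈ Submonoid.closure {r | ∃ (v : V) (hv : Q v ≠ 0), r = refl Q v hv} := by
  set S : Submonoid (V ≃ₗ[F] V) := Submonoid.closure {r | ∃ (v : V) (hv : Q v ≠ 0), r = refl Q v hv}
  have hSr : ∀ v hv, refl Q v hv ∈ S := fun v hv => Submonoid.subset_closure ⟨v, hv, rfl⟩
  intro n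
  induction n with
  | zero =>
    intro g _ hn
    have h0 : range (sub1 g) = ⊥ := finrank_eq_zero.1 (Nat.le_zero.1 hn)
    have : g = 1 := LinearEquiv.ext fun x => by
      have : sub1 g x ∈ range (sub1 g) := ⟨x, rfl⟩
      rw [h0, mem_bot, sub1_apply, sub_eq_zero] at this
      exact this
    rw [this]
    exact one_mem _
  | succ n ih =>
    intro g hg hn
    have step : ∀ h : V ≃ₗ[F] V, h ∈ isoGroup Q → rk h ≤ n + 1 →
        (∃ v ∈ range (sub1 h), Q v ≠ 0) → h ∈ S := by
      rintro h hh hhn ⟨v, hvW, hv⟩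
      have h1 := rk_mul_refl_of_mem Q hnd hh v hv hvW
      have h2 := mul_mem (ih (h * refl Q v hv) (mul_mem hh (refl_mem Q v hv)) (by omega)) (hSr v hv)
      rwa [mul_assoc, refl_mul_self, mul_one] at h2
    by_cases hex : ∃ v ∈ range (sub1 g), Q v ≠ 0
    · exact step g hg hn hex
    push Not at hex
    by_cases hW : range (sub1 g) = ⊥
    · exact ih g hg (by rw [rk, hW, finrank_bot]; exact Nat.zero_le _)
    -- `range (g - 1)` is totally singular
    obtain ⟨v, hvfix, hv⟩ : ∃ v, g v = v ∧ Q v ≠ 0 := by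
      by_contra! h
      refine hL (range (sub1 g)) hex fun x hx => ?_
      have hxfix := (fixed_iff Q hnd hg x).2 hx
      refine mem_range_of_forall_fixed Q hnd hg fun y hy => ?_
      rw [QuadraticMap.polar, h _ (by rw [map_add, hy, hxfix]), h y hy, h x hxfix]
      simp
    have hvW : v ∉ range (sub1 g) := fun h => hv (hex v h)
    obtain ⟨w₀, hw₀, hw₀0⟩ := Submodule.exists_mem_ne_zero_of_ne_bot hW
    have hvw₀ : QuadraticMap.polar Q v w₀ = 0 := (fixed_iff Q hnd hg v).1 hvfix w₀ hw₀
    have hw : Q (w₀ + v) ≠ 0 := by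
      rw [QuadraticMap.map_add (⇑Q), hex w₀ hw₀, QuadraticMap.polar_comm, hvw₀, zero_add, add_zero]
      exact hv
    set g' := g * refl Q v hv with hg'
    have hr' := rk_mul_refl_of_not_mem Q hnd hg v hv hvW
    have hg'mem : g' ∈ isoGroup Q := mul_mem hg (refl_mem Q v hv)
    have hle' : range (sub1 g') ≤ range (sub1 g) ⊔ span F {v} := by
      have := range_mul_refl_le Q g v hv
      rwa [hvfix] at this
    have hW' : range (sub1 g') = range (sub1 g) ⊔ span F {v} := by
      refine eq_of_le_of_finrank_le hle' ?_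
      refine (finrank_add_le_finrank_add_finrank _ _).trans ?_
      rw [finrank_span_singleton (fun h0 => hv (by rw [h0, QuadraticMap.map_zero]))]
      exact hr'.ge
    have hwW' : w₀ + v ∈ range (sub1 g') := by
      rw [hW']
      exact add_mem_sup hw₀ (subset_span rfl)
    set g'' := g' * refl Q (w₀ + v) hw with hg''
    have hr'' := rk_mul_refl_of_mem Q hnd hg'mem _ hw hwW'
    have hg''mem : g'' ∈ isoGroup Q := mul_mem hg'mem (refl_mem Q _ hw)
    have hle'' : range (sub1 g'') ≤ range (sub1 g') := by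
      obtain ⟨z, hz⟩ := hwW'
      have hgw : g' (w₀ + v) ∈ range (sub1 g') := by
        have h1 : sub1 g' (w₀ + v) + (w₀ + v) = g' (w₀ + v) := by rw [sub1_apply, sub_add_cancel]
        rw [← h1]
        exact add_mem ⟨_, rfl⟩ ⟨z, hz⟩
      exact (range_mul_refl_le Q g' _ hw).trans (sup_le le_rfl (span_le.2 (by simpa using hgw)))
    -- the new image is not totally singular
    have hex'' : ∃ u ∈ range (sub1 g''), Q u ≠ 0 := by
      by_contra! hts
      have hsub : range (sub1 g'') ≤ range (sub1 g) := by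
        intro y hy
        have hy' := hle'' hy
        rw [hW', mem_sup] at hy'
        obtain ⟨w1, hw1, c, hc, rfl⟩ := hy'
        obtain ⟨d, rfl⟩ := mem_span_singleton.1 hc
        have h0 := hts _ hy
        rw [QuadraticMap.map_add (⇑Q), hex w1 hw1, QuadraticMap.map_smul, QuadraticMap.polar_smul_right,
          QuadraticMap.polar_comm, (fixed_iff Q hnd hg v).1 hvfix w1 hw1] at h0
        simp only [smul_eq_mul, mul_zero, zero_add, add_zero, mul_eq_zero, hv, or_false, or_self] at h0
        rw [h0, zero_smul, add_zero]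
        exact hw1
      obtain ⟨u, hu, huv⟩ : ∃ u, g u = u ∧ QuadraticMap.polar Q u v ≠ 0 := by
        by_contra! h
        exact hvW (mem_range_of_forall_fixed Q hnd hg h)
      have hu'' : g'' u = u := (fixed_iff Q hnd hg''mem u).2
        fun y hy => (fixed_iff Q hnd hg u).1 hu y (hsub hy)
      have huw₀ : QuadraticMap.polar Q u w₀ = 0 := (fixed_iff Q hnd hg u).1 hu w₀ hw₀
      have hQw : Q (w₀ + v) = Q v := by
        rw [QuadraticMap.map_add (⇑Q), hex w₀ hw₀, QuadraticMap.polar_comm, hvw₀, zero_add, add_zero]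
      have hvv : QuadraticMap.polar Q v v = 0 := by
        rw [QuadraticMap.polar_self, nsmul_eq_mul, Nat.cast_ofNat, CharTwo.two_eq_zero, zero_mul]
      have hwv : QuadraticMap.polar Q (w₀ + v) v = 0 := by
        rw [QuadraticMap.polar_add_left, QuadraticMap.polar_comm, hvw₀, hvv, add_zero]
      simp only [hg'', hg', LinearEquiv.mul_apply, refl_apply, map_sub, map_smul,
        QuadraticMap.polar_add_right, huw₀, zero_add, hQw, QuadraticMap.polar_sub_left,
        QuadraticMap.polar_smul_left, smul_eq_mul, map_add, hu, hvfix, hwv, mul_zero, sub_zero, hvv, zero_div, zero_smul, QuadraticMap.polar_comm (⇑Q) w₀ v, hvw₀, add_zero] at hu''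
      set c := QuadraticMap.polar Q u v / Q v with hc
      have hc0 : c ≠ 0 := div_ne_zero huv hv
      have hgw₀ : c • g w₀ = 0 := by
        have h2 : c • v + c • v = 0 := by rw [← add_smul, CharTwo.add_self_eq_zero, zero_smul]
        calc c • g w₀ = u - (u - c • v - c • (g w₀ + v)) - (c • v + c • v) := by rw [smul_add]; abel
          _ = 0 := by rw [hu'', h2, sub_self, sub_zero]
      rw [smul_eq_zero] at hgw₀
      exact hw₀0 (g.injective ((hgw₀.resolve_left hc0).trans (map_zero g).symm))
    have := step g'' hg''mem (by simp only [hg'', hg'] at hr'' ⊢; omega) hex''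
    have h2 := mul_mem (mul_mem this (hSr _ hw)) (hSr v hv)
    rwa [hg'', hg', mul_assoc (g * _), refl_mul_self, mul_one, mul_assoc, refl_mul_self, mul_one] at h2

/-- The Dickson invariant is a homomorphism. -/
theorem rk_mul_parity (hnd : (QuadraticMap.polarBilin Q).Nondegenerate) (hL : NoLagrangian Q)
    {g h : V ≃ₗ[F] V} (hg : g ∈ isoGroup Q) (hh : h ∈ isoGroup Q) :
    rk (g * h) % 2 = (rk g + rk h) % 2 := by
  have hmem := exists_refl_product Q hnd hL _ h hh le_rfl
  suffices h ∈ isoGroup Q ∧ ∀ g ∈ isoGroup Q, rk (g * h) % 2 = (rk g + rk h) % 2 from this.2 g hg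
  clear hg hh g
  induction hmem using Submonoid.closure_induction with
  | mem r hr =>
    obtain ⟨v, hv, rfl⟩ := hr
    exact ⟨refl_mem Q v hv, fun g hg => by rw [rk_mul_refl_parity Q hnd hg v hv, rk_refl Q hnd v hv]⟩
  | one => exact ⟨one_mem _, fun g _ => by rw [mul_one, rk_one, add_zero]⟩
  | mul a b _ _ ha hb =>
    refine ⟨mul_mem ha.1 hb.1, fun g hg => ?_⟩
    rw [← mul_assoc, hb.2 _ (mul_mem hg ha.1), Nat.add_mod, ha.2 g hg]
    conv_rhs => rw [Nat.add_mod, hb.2 a ha.1]
    omega

/-- The isometries with `rank (g - 1)` even. -/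
noncomputable def evenGroup (hnd : (QuadraticMap.polarBilin Q).Nondegenerate) (hL : NoLagrangian Q) :
    Subgroup (V ≃ₗ[F] V) where
  carrier := {g | g ∈ isoGroup Q ∧ Even (rk g)}
  one_mem' := ⟨one_mem _, by rw [rk_one]; exact Even.zero⟩
  mul_mem' := fun {a b} ha hb => ⟨mul_mem ha.1 hb.1, by
    rw [Nat.even_iff, rk_mul_parity Q hnd hL ha.1 hb.1]
    have := Nat.even_iff.1 ha.2
    have := Nat.even_iff.1 hb.2
    omega⟩
  inv_mem' := fun {a} ha => ⟨inv_mem ha.1, by
    have h := rk_mul_parity Q hnd hL ha.1 (inv_mem ha.1)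
    rw [mul_inv_cancel, rk_one] at h
    have := Nat.even_iff.1 ha.2
    rw [Nat.even_iff]
    omega⟩

theorem mem_evenGroup {hnd : (QuadraticMap.polarBilin Q).Nondegenerate} {hL : NoLagrangian Q}
    {g : V ≃ₗ[F] V} : g ∈ evenGroup Q hnd hL ↔ g ∈ isoGroup Q ∧ Even (rk g) := Iff.rfl

/-- Isometries of odd order are even. -/
theorem mem_evenGroup_of_odd_pow {hnd : (QuadraticMap.polarBilin Q).Nondegenerate}
    {hL : NoLagrangian Q} {g : V ≃ₗ[F] V} (hg : g ∈ isoGroup Q) {m : ℕ} (hm : Odd m)
    (h1 : g ^ m = 1) : g ∈ evenGroup Q hnd hL := by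
  refine ⟨hg, ?_⟩
  have hpow : ∀ k : ℕ, rk (g ^ k) % 2 = (k * rk g) % 2 := by
    intro k
    induction k with
    | zero => simp [rk_one]
    | succ k ih =>
      rw [pow_succ, rk_mul_parity Q hnd hL (pow_mem hg k) hg, Nat.add_mod, ih, ← Nat.add_mod,
        add_mul, one_mul]
  have h := hpow m
  rw [h1, rk_one, Nat.mul_mod, Nat.odd_iff.1 hm] at h
  rw [Nat.even_iff]
  omega

end CfsgLib.OrthTwo
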