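import Cfsg.Agent.OrthTwo.OrderBound
import Cfsg.Agent.OrthTwo.Parity

/-!
# Element orders in dimension eight

For a linear map preserving a non-degenerate bilinear form on an eight-dimensional space over a
field of even order: its order is on `SpecList`; if moreover `rank (g - 1)` is even and the sum of
its powers is non-zero, twice its order is on the list.
-/

set_option autoImplicit false

namespace CfsgLib.OrthTwo

open Polynomial Module

variable {F V : Type*} [Field F] [AddCommGroup V] [Module F V] [FiniteDimensional F V]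

theorem charpoly_rev (B : LinearMap.BilinForm F V) (hB : B.Nondegenerate) (f : V →ₗ[F] V)
    (hf : ∀ x y, B (f x) (f y) = B x y) :
    f.charpoly.coeff 0 ≠ 0 ∧ rev f.charpoly = f.charpoly := by
  classical
  let b := Module.finBasis F V
  set M := LinearMap.toMatrix b b f with hM
  set J := LinearMap.BilinForm.toMatrix b B with hJ
  have hJu : IsUnit J := (Matrix.isUnit_iff_isUnit_det _).2
    (isUnit_iff_ne_zero.2 ((LinearMap.BilinForm.nondegenerate_iff_det_ne_zero b).1 hB))
  have hMJ : M.transpose * J * M = J := by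
    have h1 := LinearMap.BilinForm.toMatrix_comp (b := b) (c := b) B f f
    rw [← hM] at h1
    rw [← h1]
    congr 1
    exact LinearMap.ext fun x => LinearMap.ext fun y => hf x y
  have hdet : M.det ≠ 0 := by
    intro h
    have h2 := congrArg Matrix.det hMJ
    rw [Matrix.det_mul, h, mul_zero] at h2
    exact ((Matrix.isUnit_iff_isUnit_det _).1 hJu).ne_zero h2.symm
  have hMu : IsUnit M := (Matrix.isUnit_iff_isUnit_det _).2 (isUnit_iff_ne_zero.2 hdet)
  have hP : f.charpoly = M.charpoly := (LinearMap.charpoly_toMatrix f b).symm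
  rw [hP]
  have h0 : M.charpoly.coeff 0 ≠ 0 := by
    intro h
    apply hdet
    rw [Matrix.det_eq_sign_charpoly_coeff, h, mul_zero]
  refine ⟨h0, ?_⟩
  obtain ⟨u, hu⟩ := hJu
  have hinv : M⁻¹ = (↑u⁻¹ : Matrix _ _ F) * M.transpose * (↑u : Matrix _ _ F) := by
    refine Matrix.inv_eq_left_inv ?_
    rw [mul_assoc, mul_assoc, hu, ← mul_assoc (M.transpose) J M, hMJ, ← hu, Units.inv_mul]
  have h1 : M⁻¹.charpoly = M.charpoly := by
    rw [hinv, Matrix.coe_units_inv, Matrix.charpoly_units_conj', Matrix.charpoly_transpose]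
  rw [Matrix.charpoly_inv _ hMu, ← Matrix.reverse_charpoly] at h1
  set c : F[X] := (-1) ^ Fintype.card (Fin (finrank F V)) * C (Ring.inverse M.det) with hc
  have h2 := congrArg leadingCoeff h1
  rw [leadingCoeff_mul, (Matrix.charpoly_monic M).leadingCoeff, reverse_leadingCoeff, trailingCoeff,
    natTrailingDegree_eq_zero.2 (Or.inr h0)] at h2
  obtain ⟨k, hk⟩ : ∃ k : F, c = C k :=
    ⟨(-1) ^ Fintype.card (Fin (finrank F V)) * Ring.inverse M.det, by simp [hc, map_mul, map_pow]⟩
  rw [hk, leadingCoeff_C] at h2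
  rw [hk] at h1
  have h3 : k = (M.charpoly.coeff 0)⁻¹ := eq_inv_of_mul_eq_one_left h2
  rw [rev, ← h3]
  exact h1

/-- A finite-order-eight bound on orders. -/
theorem pow_eq_one_of_dvd {f : V →ₗ[F] V} {L : ℕ} (h : f.charpoly ∣ X ^ L - 1) : f ^ L = 1 := by
  obtain ⟨c, hc⟩ := h
  have := congrArg (aeval f) hc
  rw [map_mul, LinearMap.aeval_self_charpoly, zero_mul, map_sub, map_pow, aeval_X, map_one,
    sub_eq_zero] at this
  exact this

variable [Fintype F] [CharP F 2]

theorem even_card : Even (Fintype.card F) := by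
  rw [Nat.even_iff]
  exact FiniteField.even_card_iff_char_two.1 (ringChar.eq F 2)

theorem exists_bound (B : LinearMap.BilinForm F V) (hB : B.Nondegenerate) (h8 : finrank F V = 8)
    (f : V →ₗ[F] V) (hf : ∀ x y, B (f x) (f y) = B x y) :
    ∃ t M, Odd M ∧ f ^ (2 ^ t * M) = 1 ∧ Even (f.charpoly.rootMultiplicity 1) ∧
      f.charpoly.rootMultiplicity 1 ≤ 2 ^ t ∧ SpecList (Fintype.card F) (2 ^ t * M) := by
  obtain ⟨h0, hrev⟩ := charpoly_rev B hB f hf
  obtain ⟨t, M, h1, h2, h3, h4, h5⟩ := exists_specList f.charpoly f.charpoly_monic h0 hrev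
    (by rw [LinearMap.charpoly_natDegree, h8]) even_card
  refine ⟨t, M, h1, pow_eq_one_of_dvd (h2.trans (dvd_of_eq ?_)), h3, h4, h5⟩
  rw [sub_pow_char_pow, one_pow, ← pow_mul, mul_comm]

/-- The order of an element preserving a non-degenerate form on an eight-dimensional space. -/
theorem specList_orderOf (B : LinearMap.BilinForm F V) (hB : B.Nondegenerate) (h8 : finrank F V = 8)
    (f : V →ₗ[F] V) (hf : ∀ x y, B (f x) (f y) = B x y) :
    SpecList (Fintype.card F) (orderOf f) := by
  obtain ⟨t, M, _, h2, _, _, h5⟩ := exists_bound B hB h8 f hf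
  exact h5.of_dvd (orderOf_dvd_of_pow_eq_one h2)

/-- If the order of an affine map doubles, twice the order is on the list. -/
theorem specList_two_mul (B : LinearMap.BilinForm F V) (hB : B.Nondegenerate) (h8 : finrank F V = 8)
    (f : V →ₗ[F] V) (hf : ∀ x y, B (f x) (f y) = B x y)
    (heven : Even (finrank F (LinearMap.range (f - 1))))
    (hsum : (∑ i ∈ Finset.range (orderOf f), f ^ i) ≠ 0) :
    SpecList (Fintype.card F) (2 * orderOf f) := by
  classical
  obtain ⟨t, M, hM, h2, h3, h4, h5⟩ := exists_bound B hB h8 f hf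
  have hN0 : 0 < orderOf f := by
    refine orderOf_pos_iff.2 (isOfFinOrder_iff_pow_eq_one.2 ⟨2 ^ t * M, ?_, h2⟩)
    exact Nat.mul_pos (pow_pos two_pos t) hM.pos
  obtain ⟨e, m, hm, hN⟩ := Nat.exists_eq_pow_mul_and_not_dvd hN0.ne' 2 (by norm_num)
  set N := orderOf f with hNdef
  set a := f.charpoly.rootMultiplicity 1 with ha
  set S : F[X] := ∑ i ∈ Finset.range N, X ^ i with hS
  have hSf : aeval f S ≠ 0 := by simpa [hS, map_sum] using hsum
  have hgeo : S * (X - 1) = X ^ N - 1 := geom_sum_mul X N
  have hmu : minpoly F f ∣ S * (X - 1) := by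
    rw [hgeo]
    exact minpoly.dvd F f (by rw [map_sub, map_pow, aeval_X, map_one, hNdef, pow_orderOf_eq_one, sub_self])
  obtain ⟨c, hc⟩ := hmu
  have hX : Irreducible (X - 1 : F[X]) := by simpa using irreducible_X_sub_C (1 : F)
  have hcX : ¬ (X - 1) ∣ c := by
    rintro ⟨c', rfl⟩
    apply hSf
    have h6 : S = minpoly F f * c' := by
      refine mul_right_cancel₀ hX.ne_zero ?_
      rw [hc]
      ring
    rw [h6, map_mul, minpoly.aeval, zero_mul]
  have hdvd : (X - 1 : F[X]) ^ 2 ^ e ∣ minpoly F f := by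
    refine ((hX.coprime_iff_not_dvd.2 hcX).pow_left).dvd_of_dvd_mul_right ?_
    rw [← hc, hgeo, hN, mul_comm, pow_mul, ← one_pow (2 ^ e), ← sub_pow_char_pow]
    rw [one_pow]
    exact pow_dvd_pow_of_dvd (by simpa using sub_dvd_pow_sub_pow (X : F[X]) 1 m) _
  have hle : 2 ^ e ≤ a := by
    refine (le_rootMultiplicity_iff f.charpoly_monic.ne_zero).2 ?_
    rw [C_1]
    exact hdvd.trans (LinearMap.minpoly_dvd_charpoly f)
  have hlt : 2 ^ e < a := by
    refine lt_of_le_of_ne hle fun heq => ?_
    -- a single Jordan block at the eigenvalue one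
    obtain ⟨μ', hμ'⟩ := hdvd
    have ha1 : 1 ≤ a := heq ▸ Nat.one_le_two_pow
    obtain ⟨w, hw1, hw2⟩ : ∃ w, ((f - 1) ^ a) w = 0 ∧ ((f - 1) ^ (a - 1)) w ≠ 0 := by
      by_contra! hno
      have hz : aeval f ((X - 1) ^ (a - 1) * μ') = 0 := by
        refine LinearMap.ext fun v => ?_
        rw [map_mul, map_pow, map_sub, aeval_X, map_one, Module.End.mul_apply, LinearMap.zero_apply]
        apply hno
        have h7 := LinearMap.congr_fun (minpoly.aeval F f) v
        rw [hμ', heq, map_mul, map_pow, map_sub, aeval_X, map_one, Module.End.mul_apply] at h7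
        exact h7
      have hμ0 : μ' ≠ 0 := by
        rintro rfl
        rw [mul_zero] at hμ'
        exact minpoly.ne_zero (Algebra.IsIntegral.isIntegral f) hμ'
      have h9 := natDegree_le_of_dvd (minpoly.dvd F f hz) (mul_ne_zero (pow_ne_zero _ hX.ne_zero) hμ0)
      rw [hμ', heq, natDegree_mul (pow_ne_zero _ hX.ne_zero) hμ0,
        natDegree_mul (pow_ne_zero _ hX.ne_zero) hμ0, natDegree_pow, natDegree_pow,
        show (X - 1 : F[X]).natDegree = 1 by simpa using natDegree_X_sub_C (1 : F)] at h9
      omega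
    have hmono : ∀ j, j < a → finrank F (LinearMap.ker (f - 1)) + j ≤
        finrank F (LinearMap.ker ((f - 1) ^ (j + 1))) := by
      intro j hj
      induction j with
      | zero => rw [pow_one, add_zero]
      | succ j ih =>
        refine le_trans (Nat.add_le_add_right (ih (by omega)) 1) (Submodule.finrank_lt_finrank_of_lt ?_)
        refine lt_of_le_of_ne (fun x hx => ?_) fun hE => hw2 ?_
        · rw [LinearMap.mem_ker] at hx ⊢
          rw [pow_succ', Module.End.mul_apply, hx, map_zero]
        · have hmem : ((f - 1) ^ (a - 1 - (j + 1))) w ∈ LinearMap.ker ((f - 1) ^ (j + 1 + 1)) := by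
            rw [LinearMap.mem_ker, ← Module.End.mul_apply, ← pow_add,
              show j + 1 + 1 + (a - 1 - (j + 1)) = a by omega, hw1]
          rw [← hE, LinearMap.mem_ker, ← Module.End.mul_apply, ← pow_add,
            show j + 1 + (a - 1 - (j + 1)) = a - 1 by omega] at hmem
          exact hmem
    have hk := hmono (a - 1) (by omega)
    rw [show a - 1 + 1 = a by omega] at hk
    have hbound : finrank F (LinearMap.ker ((f - 1) ^ a)) ≤ a := by
      have hg := LinearMap.finrank_genEigenspace_le f 1 a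
      rw [Module.End.genEigenspace_nat, one_smul] at hg
      exact hg
    have hpos : 1 ≤ finrank F (LinearMap.ker (f - 1)) := by
      refine Submodule.one_le_finrank_iff.2 fun hbot => hw2 ?_
      have : ((f - 1) ^ (a - 1)) w ∈ LinearMap.ker (f - 1) := by
        rw [LinearMap.mem_ker, ← Module.End.mul_apply, ← pow_succ', show a - 1 + 1 = a by omega, hw1]
      rwa [hbot, Submodule.mem_bot] at this
    have hrn := (f - 1).finrank_range_add_finrank_ker
    rw [h8] at hrn
    rw [Nat.even_iff] at heven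
    omega
  have het : e < t := (Nat.pow_lt_pow_iff_right (by norm_num)).1 (hlt.trans_le h4)
  refine h5.of_dvd ?_
  rw [hN, ← mul_assoc, ← pow_succ']
  refine mul_dvd_mul (pow_dvd_pow 2 het) ?_
  have h6 : m ∣ 2 ^ t * M := (dvd_mul_left m (2 ^ e)).trans (hN ▸ orderOf_dvd_of_pow_eq_one h2)
  exact (((Nat.prime_two.coprime_iff_not_dvd).2 hm).symm.pow_right t).dvd_of_dvd_mul_left h6

end CfsgLib.OrthTwo
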