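import Mathlib

/-!
# Orders of elements preserving a form in dimension eight, characteristic two

The characteristic polynomial of a matrix preserving a non-degenerate form is self-reciprocal.
Splitting it into self-reciprocal atoms bounds the order by one of twelve explicit numbers
(`SpecList`), and controls when the order of an element of the affine extension doubles.
-/

set_option autoImplicit false

namespace CfsgLib.OrthTwo

open Polynomial

/-- The maximal element orders of `Sp(8,q)`, `q` even. -/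
def SpecList (q N : ℕ) : Prop :=
  N ∣ 8 * (q - 1) ∨ N ∣ 8 * (q + 1) ∨ N ∣ 4 * (q ^ 2 - 1) ∨ N ∣ 4 * (q ^ 2 + 1) ∨
  N ∣ 2 * (q ^ 3 - 1) ∨ N ∣ 2 * (q ^ 3 + 1) ∨ N ∣ 2 * ((q ^ 2 + 1) * (q - 1)) ∨
  N ∣ 2 * ((q ^ 2 + 1) * (q + 1)) ∨ N ∣ q ^ 4 + 1 ∨ N ∣ q ^ 4 - 1 ∨
  N ∣ (q ^ 3 + 1) * (q - 1) ∨ N ∣ (q ^ 3 - 1) * (q + 1)

theorem SpecList.of_dvd {q N M : ℕ} (h : SpecList q M) (hNM : N ∣ M) : SpecList q N := by
  unfold SpecList at *
  rcases h with h | h | h | h | h | h | h | h | h | h | h | h <;> simp [hNM.trans h]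

section Rev

variable {F : Type*} [Field F]

/-- The monic reciprocal polynomial. -/
noncomputable def rev (f : F[X]) : F[X] := C (f.coeff 0)⁻¹ * f.reverse

theorem natDegree_reverse_eq {f : F[X]} (h0 : f.coeff 0 ≠ 0) : f.reverse.natDegree = f.natDegree := by
  rw [reverse_natDegree, natTrailingDegree_eq_zero.2 (Or.inr h0), Nat.sub_zero]

theorem reverse_reverse_eq {f : F[X]} (h0 : f.coeff 0 ≠ 0) : f.reverse.reverse = f := by
  ext n
  rw [coeff_reverse, coeff_reverse, natDegree_reverse_eq h0, revAt_invol]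

theorem rev_mul (f g : F[X]) : rev (f * g) = rev f * rev g := by
  rw [rev, rev, rev, mul_coeff_zero, mul_inv, map_mul, reverse_mul_of_domain]
  ring

theorem rev_monic {f : F[X]} (h0 : f.coeff 0 ≠ 0) : (rev f).Monic := by
  rw [Monic, rev, leadingCoeff_mul, leadingCoeff_C, reverse_leadingCoeff,
    trailingCoeff, natTrailingDegree_eq_zero.2 (Or.inr h0), inv_mul_cancel₀ h0]

theorem rev_natDegree {f : F[X]} (h0 : f.coeff 0 ≠ 0) : (rev f).natDegree = f.natDegree := by
  rw [rev, natDegree_C_mul (inv_ne_zero h0), natDegree_reverse_eq h0]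

theorem rev_coeff_zero {f : F[X]} (hf : f.Monic) : (rev f).coeff 0 = (f.coeff 0)⁻¹ := by
  rw [rev, mul_coeff_zero, coeff_C_zero, coeff_zero_reverse, hf.leadingCoeff, mul_one]

theorem rev_rev {f : F[X]} (hf : f.Monic) (h0 : f.coeff 0 ≠ 0) : rev (rev f) = f := by
  rw [rev, rev_coeff_zero hf, inv_inv, rev, reverse_mul_of_domain, reverse_C, reverse_reverse_eq h0,
    ← mul_assoc, ← map_mul, mul_inv_cancel₀ h0, map_one, one_mul]

theorem rev_irreducible {f : F[X]} (hf : f.Monic) (h0 : f.coeff 0 ≠ 0) (hi : Irreducible f) :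
    Irreducible (rev f) := by
  rw [(rev_monic h0).irreducible_iff_natDegree]
  refine ⟨fun h => ?_, fun a b ha hb hab => ?_⟩
  · have hr := congrArg natDegree h
    rw [rev_natDegree h0, natDegree_one] at hr
    exact hi.natDegree_pos.ne' hr
  · have h1 : rev (a * b) = f := by rw [hab, rev_rev hf h0]
    have h2 : (rev f).coeff 0 ≠ 0 := by
      rw [rev_coeff_zero hf]
      exact inv_ne_zero h0
    rw [← hab, mul_coeff_zero, mul_ne_zero_iff] at h2
    rw [rev_mul] at h1
    rcases hi.isUnit_or_isUnit h1.symm with h | h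
    · left
      rw [← rev_natDegree h2.1]
      exact natDegree_eq_zero_of_isUnit h
    · right
      rw [← rev_natDegree h2.2]
      exact natDegree_eq_zero_of_isUnit h

theorem aeval_rev {K : Type*} [Field K] [Algebra F K] {f : F[X]} {x : K}
    (hx : aeval x f = 0) (hx0 : x ≠ 0) : aeval x⁻¹ (rev f) = 0 := by
  let : Invertible x := invertibleOfNonzero hx0
  have h := (eval₂_reverse_eq_zero_iff (algebraMap F K) x f).2 hx
  rw [invOf_eq_inv] at h
  rw [rev, map_mul]
  change _ * eval₂ (algebraMap F K) x⁻¹ f.reverse = 0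
  rw [h, mul_zero]

theorem rev_X_sub_one [CharP F 2] : rev (X - 1 : F[X]) = X - 1 := by
  have h : (X + 1 : F[X]) = X + C 1 := by rw [C_1]
  have hrX : (X : F[X]).reverse = 1 := by rw [← one_mul (X : F[X]), reverse_mul_X, ← C_1, reverse_C]
  rw [CharTwo.sub_eq_add, rev, h, reverse_add_C, hrX, natDegree_X, pow_one, coeff_add, coeff_X_zero,
    coeff_C_zero, zero_add, inv_one, map_one, one_mul, one_mul, add_comm]

end Rev

section Finite

variable {F : Type*} [Field F] [Fintype F]

/-- An irreducible `f` with `f(0) ≠ 0` divides `X^(q^n - 1) - 1`, and `X^(q^d + 1) - 1` if it is a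
self-reciprocal polynomial other than `X - 1` (`n = deg f = 2 d`). -/
theorem irreducible_dvd [CharP F 2] {f : F[X]} (hi : Irreducible f) (hm : f.Monic)
    (h0 : f.coeff 0 ≠ 0) :
    f ∣ X ^ (Fintype.card F ^ f.natDegree - 1) - 1 ∧
    (rev f = f → f ≠ X - 1 → ∃ d, 1 ≤ d ∧ f.natDegree = 2 * d ∧
      f ∣ X ^ (Fintype.card F ^ d + 1) - 1) := by
  classical
  set q := Fintype.card F
  have : Fact (Irreducible f) := ⟨hi⟩
  let K := AdjoinRoot f
  have hfd : Module.finrank F K = f.natDegree := by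
    rw [(AdjoinRoot.powerBasis hi.ne_zero).finrank, AdjoinRoot.powerBasis_dim]
  have : Module.Finite F K := (AdjoinRoot.powerBasis hi.ne_zero).finite
  have : Finite K := Module.finite_of_finite F
  cases nonempty_fintype K
  have hK : Fintype.card K = q ^ f.natDegree := by
    rw [← hfd, Module.card_eq_pow_finrank (K := F)]
  set α : K := AdjoinRoot.root f
  have hα : aeval α f = 0 := by rw [AdjoinRoot.aeval_eq, AdjoinRoot.mk_self]
  have hmin : minpoly F α = f := (minpoly.eq_of_irreducible_of_monic hi hα hm).symm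
  have hα0 : α ≠ 0 := by
    intro h
    have h2 := minpoly.coeff_zero_eq_zero (x := α) (Algebra.IsIntegral.isIntegral (R := F) α)
    rw [hmin] at h2
    exact h0 (h2.2 h)
  have hdvd : ∀ N : ℕ, α ^ N = 1 → f ∣ X ^ N - 1 := fun N h => by
    rw [← hmin]
    exact minpoly.dvd F α (by simp [h])
  refine ⟨hdvd _ (by rw [← hK]; exact FiniteField.pow_card_sub_one_eq_one α hα0), ?_⟩
  intro hrev hne
  have hinv : aeval α⁻¹ f = 0 :=
    (congrArg (fun g : F[X] => aeval α⁻¹ g) hrev).symm.trans (aeval_rev hα hα0)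
  -- the inverse is a Frobenius image of the root
  let φ : K →ₐ[F] K := AdjoinRoot.liftAlgHom f (Algebra.ofId F K) α⁻¹ (by simpa [aeval_def] using hinv)
  have hφ : φ α = α⁻¹ := AdjoinRoot.liftAlgHom_root _ _ _ _
  obtain ⟨⟨i, hi'⟩, hie⟩ := (FiniteField.bijective_frobeniusAlgHom_pow F K).2 φ
  simp only at hie
  have hpow : ∀ j : ℕ, (FiniteField.frobeniusAlgHom F K ^ j) α = α ^ q ^ j := by
    intro j
    induction j with
    | zero => simp
    | succ j ih =>
      rw [pow_succ', AlgHom.mul_apply, ih]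
      change (α ^ q ^ j) ^ q = α ^ q ^ (j + 1)
      rw [← pow_mul, ← pow_succ]
  have hiq : α ^ q ^ i = α⁻¹ := by rw [← hpow, hie, hφ]
  rw [hfd] at hi'
  have h2i : α ^ q ^ (2 * i) = α := by
    rw [two_mul, pow_add, pow_mul, hiq, inv_pow, hiq, inv_inv]
  -- `2 i` is a multiple of the degree
  have hfix : (FiniteField.frobeniusAlgHom F K ^ (2 * i)) = 1 := by
    apply AdjoinRoot.algHom_ext
    rw [hpow, h2i]
    rfl
  have hdiv : f.natDegree ∣ 2 * i := by
    rw [← hfd, ← FiniteField.orderOf_frobeniusAlgHom F K]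
    exact orderOf_dvd_of_pow_eq_one hfix
  have hi0 : i ≠ 0 := by
    intro h
    rw [h, pow_zero, pow_one] at hiq
    have h1 : α = 1 := by
      have : CharP K 2 := charP_of_injective_algebraMap (algebraMap F K).injective 2
      have h2 : α * α = 1 := by
        conv_lhs => arg 2; rw [hiq]
        exact mul_inv_cancel₀ hα0
      rcases mul_self_eq_one_iff.1 h2 with h3 | h3
      · exact h3
      · rw [h3]; exact CharTwo.neg_eq 1
    rw [h1] at hmin
    rw [minpoly.one] at hmin
    exact hne hmin.symm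
  refine ⟨i, Nat.one_le_iff_ne_zero.2 hi0, ?_, hdvd _ ?_⟩
  · obtain ⟨c, hc⟩ := hdiv
    rcases c with _ | _ | c
    · omega
    · omega
    · nlinarith
  · rw [pow_succ, hiq, inv_mul_cancel₀ hα0]

/-- A self-reciprocal atom. -/
structure IsAtomPoly (A : F[X]) (d : ℕ) : Prop where
  monic : A.Monic
  natDeg : A.natDegree = 2 * d
  pos : 1 ≤ d
  dvd : A ∣ X ^ (Fintype.card F ^ d - 1) - 1 ∨ A ∣ X ^ (Fintype.card F ^ d + 1) - 1
  irred : ∀ B : F[X], B.Monic → B ∣ A → rev B = B → B = 1 ∨ B = A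
  selfRev : rev A = A
  coprime : IsCoprime A (X - 1)

theorem eq_or_coprime {A B : F[X]} {d e : ℕ} (hA : IsAtomPoly A d) (hB : IsAtomPoly B e) :
    A = B ∨ IsCoprime A B := by
  by_contra h
  push Not at h
  obtain ⟨f₀, hf₀, hfA, hfB⟩ : ∃ f : F[X], Irreducible f ∧ f ∣ A ∧ f ∣ B := by
    by_contra! hno
    exact h.2 (isCoprime_of_irreducible_dvd (fun h0 => hA.monic.ne_zero h0.1) hno)
  set f := f₀ * C f₀.leadingCoeff⁻¹ with hf
  have hfm : f.Monic := monic_mul_leadingCoeff_inv hf₀.ne_zero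
  have hu : IsUnit (C f₀.leadingCoeff⁻¹) :=
    isUnit_C.2 (isUnit_iff_ne_zero.2 (inv_ne_zero (leadingCoeff_ne_zero.2 hf₀.ne_zero)))
  have hfi : Irreducible f := (irreducible_mul_isUnit hu).2 hf₀
  replace hfA : f ∣ A := hu.mul_right_dvd.2 hfA
  replace hfB : f ∣ B := hu.mul_right_dvd.2 hfB
  have hrevdvd : ∀ {C' : F[X]}, rev C' = C' → f ∣ C' → rev f ∣ C' := by
    rintro C' hC ⟨c, hc⟩
    have h2 : rev f ∣ rev (f * c) := ⟨rev c, rev_mul f c⟩
    rwa [← hc, hC] at h2
  have hf0 : f.coeff 0 ≠ 0 := by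
    obtain ⟨c, hc⟩ := hfA
    intro h0
    have h1 := hA.selfRev
    rw [rev, hc, mul_coeff_zero, h0, zero_mul, inv_zero, map_zero, zero_mul] at h1
    exact hA.monic.ne_zero (by rw [hc]; exact h1.symm)
  obtain ⟨G, hGm, hGA, hGB, hGrev, hG1⟩ : ∃ G : F[X], G.Monic ∧ G ∣ A ∧ G ∣ B ∧ rev G = G ∧ G ≠ 1 := by
    by_cases hfr : rev f = f
    · exact ⟨f, hfm, hfA, hfB, hfr, fun h1 => hfi.not_isUnit (h1 ▸ isUnit_one)⟩
    · have hrm := rev_monic hf0
      have hri := rev_irreducible hfm hf0 hfi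
      have hcop : IsCoprime f (rev f) := hfi.coprime_iff_not_dvd.2 fun hd =>
        hfr (eq_of_monic_of_associated hrm hfm (hfi.associated_of_dvd hri hd).symm)
      refine ⟨f * rev f, hfm.mul hrm, hcop.mul_dvd hfA (hrevdvd hA.selfRev hfA),
        hcop.mul_dvd hfB (hrevdvd hB.selfRev hfB), by rw [rev_mul, rev_rev hfm hf0, mul_comm], ?_⟩
      intro h1
      exact hfi.not_isUnit (.of_mul_eq_one (rev f) h1)
  exact h.1 (((hA.irred G hGm hGA hGrev).resolve_left hG1).symm.trans
    ((hB.irred G hGm hGB hGrev).resolve_left hG1))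

/-- Decomposition of a self-reciprocal polynomial. -/
theorem exists_atoms [CharP F 2] (P : F[X]) (hP : P.Monic) (h0 : P.coeff 0 ≠ 0) (hrev : rev P = P) :
    ∃ (a : ℕ) (l : List (F[X] × ℕ)), (∀ x ∈ l, IsAtomPoly x.1 x.2) ∧
      P = (X - 1) ^ a * (l.map Prod.fst).prod ∧ a + 2 * (l.map Prod.snd).sum = P.natDegree := by
  induction hn : P.natDegree using Nat.strong_induction_on generalizing P with
  | _ n ih =>
    by_cases hP1 : P = 1
    · exact ⟨0, [], by simp, by simp [hP1], by simp [← hn, hP1]⟩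
    obtain ⟨f, hfm, hfi, hfP⟩ := exists_monic_irreducible_factor P (fun hu => hP1 (hP.eq_one_of_isUnit hu))
    obtain ⟨R, hR⟩ := hfP
    have hc := h0
    rw [hR, mul_coeff_zero, mul_ne_zero_iff] at hc
    have key : ∀ A R' : F[X], A.Monic → 0 < A.natDegree → rev A = A → P = A * R' →
        (∀ (a : ℕ) (l : List (F[X] × ℕ)), (∀ x ∈ l, IsAtomPoly x.1 x.2) → R' = (X - 1) ^ a * (l.map Prod.fst).prod →
          a + 2 * (l.map Prod.snd).sum = R'.natDegree →
          ∃ (a' : ℕ) (l' : List (F[X] × ℕ)), (∀ x ∈ l', IsAtomPoly x.1 x.2) ∧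
            P = (X - 1) ^ a' * (l'.map Prod.fst).prod ∧ a' + 2 * (l'.map Prod.snd).sum = P.natDegree) →
        ∃ (a' : ℕ) (l' : List (F[X] × ℕ)), (∀ x ∈ l', IsAtomPoly x.1 x.2) ∧
            P = (X - 1) ^ a' * (l'.map Prod.fst).prod ∧ a' + 2 * (l'.map Prod.snd).sum = n := by
      intro A R' hA hAd hArev hAR hk
      have hR'm : R'.Monic := hA.of_mul_monic_left (hAR ▸ hP)
      have hc' := h0
      rw [hAR, mul_coeff_zero, mul_ne_zero_iff] at hc'
      have hR'rev : rev R' = R' := by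
        have := hrev
        rw [hAR, rev_mul, hArev] at this
        exact mul_left_cancel₀ hA.ne_zero this
      have hdeg : P.natDegree = A.natDegree + R'.natDegree := by rw [hAR, hA.natDegree_mul hR'm]
      obtain ⟨a, l, h1, h2, h3⟩ := ih R'.natDegree (by omega) R' hR'm hc'.2 hR'rev rfl
      rw [← hn]
      exact hk a l h1 h2 h3
    have hdegP : ∀ A R' : F[X], A.Monic → P = A * R' → P.natDegree = A.natDegree + R'.natDegree :=
      fun A R' hA hAR => by rw [hAR, hA.natDegree_mul (hA.of_mul_monic_left (hAR ▸ hP))]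
    by_cases hf1 : f = X - 1
    · have hrevf : rev (X - 1 : F[X]) = X - 1 := rev_X_sub_one
      refine key f R hfm hfi.natDegree_pos (hf1 ▸ hrevf) hR fun a l h1 h2 h3 => ⟨a + 1, l, h1, ?_, ?_⟩
      · rw [hR, h2, hf1, pow_succ]
        ring
      · rw [hdegP f R hfm hR, ← h3, hf1, show (X - 1 : F[X]) = X - C 1 by rw [C_1], natDegree_X_sub_C]
        ring
    obtain ⟨hdv, hself⟩ := irreducible_dvd hfi hfm hc.1
    have hcopX : IsCoprime f (X - 1) := by
      refine (hfi.coprime_iff_not_dvd).2 fun hd => hf1 ?_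
      refine eq_of_monic_of_associated hfm (by simpa using monic_X_sub_C (1 : F)) ?_
      exact hfi.associated_of_dvd (by simpa using irreducible_X_sub_C (1 : F)) hd
    by_cases hfr : rev f = f
    · obtain ⟨d, hd1, hd2, hd3⟩ := hself hfr hf1
      refine key f R hfm hfi.natDegree_pos hfr hR fun a l h1 h2 h3 => ⟨a, (f, d) :: l, ?_, ?_, ?_⟩
      · rintro x hx
        rcases List.mem_cons.1 hx with rfl | hx
        · exact ⟨hfm, hd2, hd1, Or.inr hd3, fun B hB hBA _ => by
            obtain ⟨c, hcB⟩ := hBA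
            rcases hfi.isUnit_or_isUnit hcB with hu | hu
            · exact Or.inl (hB.eq_one_of_isUnit hu)
            · exact Or.inr (eq_of_monic_of_associated hB hfm ⟨hu.unit, hcB.symm⟩), hfr, hcopX⟩
        · exact h1 x hx
      · rw [hR, h2, List.map_cons, List.prod_cons]
        ring
      · rw [hdegP f R hfm hR, ← h3, hd2, List.map_cons, List.sum_cons]
        ring
    · -- `f` and `rev f` both occur
      have hri := rev_irreducible hfm hc.1 hfi
      have hrm := rev_monic hc.1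
      have hrd : rev f ∣ R := by
        have h1 : rev f ∣ f * R := by rw [← hR, ← hrev, hR, rev_mul]; exact dvd_mul_right _ _
        refine (hri.prime.dvd_mul.1 h1).resolve_left fun hd => hfr ?_
        exact eq_of_monic_of_associated hrm hfm (hri.associated_of_dvd hfi hd)
      obtain ⟨R', hR'⟩ := hrd
      set A := f * rev f with hA
      have hAm : A.Monic := hfm.mul hrm
      have hArev : rev A = A := by rw [hA, rev_mul, rev_rev hfm hc.1, mul_comm]
      have hAd : A.natDegree = 2 * f.natDegree := by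
        rw [hA, hfm.natDegree_mul hrm, rev_natDegree hc.1, two_mul]
      have hfd := hfi.natDegree_pos
      have hrc0 : (rev f).coeff 0 ≠ 0 := by rw [rev_coeff_zero hfm]; exact inv_ne_zero hc.1
      have hdv' := (irreducible_dvd hri hrm hrc0).1
      rw [rev_natDegree hc.1] at hdv'
      have hcop : IsCoprime f (rev f) := (hfi.coprime_iff_not_dvd).2 fun hd =>
        hfr (eq_of_monic_of_associated hrm hfm (hfi.associated_of_dvd hri hd).symm)
      refine key A R' hAm (by omega) hArev (by rw [hR, hR', hA]; ring) fun a l h1 h2 h3 =>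
        ⟨a, (A, f.natDegree) :: l, ?_, ?_, ?_⟩
      · rintro x hx
        rcases List.mem_cons.1 hx with rfl | hx
        · refine ⟨hAm, hAd, hfd, Or.inl (hcop.mul_dvd hdv hdv'), fun B hB hBA hBrev => ?_, hArev, ?_⟩
          · by_cases hfB : f ∣ B
            · right
              have hrB : rev f ∣ B := by
                obtain ⟨c, hcB⟩ := hfB
                rw [← hBrev, hcB, rev_mul]
                exact dvd_mul_right _ _
              refine (eq_of_monic_of_dvd_of_natDegree_le hB hAm hBA ?_).symm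
              exact natDegree_le_of_dvd (hcop.mul_dvd hfB hrB) hB.ne_zero
            · left
              have hcf : IsCoprime B f := ((hfi.coprime_iff_not_dvd).2 hfB).symm
              have hcr : IsCoprime B (rev f) := by
                refine ((hri.coprime_iff_not_dvd).2 fun hd => hfB ?_).symm
                obtain ⟨c, hcB⟩ := hd
                rw [← hBrev, hcB, rev_mul, rev_rev hfm hc.1]
                exact dvd_mul_right _ _
              exact hB.eq_one_of_isUnit ((hcf.mul_right hcr).isUnit_of_dvd' dvd_rfl hBA)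
          · refine IsCoprime.mul_left hcopX ?_
            refine (hri.coprime_iff_not_dvd).2 fun hd => hf1 ?_
            have h2 : rev f = X - 1 := eq_of_monic_of_associated hrm
              (by simpa using monic_X_sub_C (1 : F))
              (hri.associated_of_dvd (by simpa using irreducible_X_sub_C (1 : F)) hd)
            have h3 := congrArg rev h2
            rw [rev_rev hfm hc.1] at h3
            rw [h3, rev_X_sub_one]
        · exact h1 x hx
      · rw [hR, hR', h2, List.map_cons, List.prod_cons]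
        simp only [hA]
        ring
      · rw [hdegP A R' hAm (by rw [hR, hR', hA]; ring), ← h3, hAd, List.map_cons, List.sum_cons]
        ring

/-- A product of atoms divides `(X^M - 1)^(2^t)`. -/
theorem prod_dvd [CharP F 2] [DecidableEq F[X]] {a t M : ℕ} (l : List (F[X] × ℕ))
    (hl : ∀ x ∈ l, IsAtomPoly x.1 x.2) (hM : ∀ x ∈ l, x.1 ∣ X ^ M - 1)
    (hcount : ∀ x ∈ l, (l.map Prod.fst).count x.1 ≤ 2 ^ t) (ha : a ≤ 2 ^ t) :
    (X - 1) ^ a * (l.map Prod.fst).prod ∣ (X ^ M - 1) ^ 2 ^ t := by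
  set m : Multiset F[X] := ((l.map Prod.fst : List F[X]) : Multiset F[X]) with hm
  have hprod : (l.map Prod.fst).prod = m.prod := by rw [hm, Multiset.prod_coe]
  rw [hprod, Finset.prod_multiset_count]
  have hS : ∀ A ∈ m.toFinset, ∃ x ∈ l, x.1 = A := fun A hA => by
    rw [Multiset.mem_toFinset, hm, Multiset.mem_coe] at hA
    simpa using hA
  refine (mul_dvd_mul (pow_dvd_pow _ ha) (Finset.prod_dvd_prod_of_dvd _ _
    (fun A hA => pow_dvd_pow A (?_ : Multiset.count A m ≤ 2 ^ t)))).trans ?_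
  · obtain ⟨x, hx, rfl⟩ := hS A hA
    rw [hm, Multiset.coe_count]
    exact hcount x hx
  rw [Finset.prod_pow, ← mul_pow]
  refine pow_dvd_pow_of_dvd ?_ _
  refine (IsCoprime.prod_right fun A hA => ?_).mul_dvd ?_ (Finset.prod_dvd_of_coprime ?_ ?_)
  · obtain ⟨x, hx, rfl⟩ := hS A hA
    exact (hl x hx).coprime.symm
  · simpa using sub_dvd_pow_sub_pow (X : F[X]) 1 M
  · intro A hA B hB hne
    obtain ⟨x, hx, rfl⟩ := hS A hA
    obtain ⟨y, hy, rfl⟩ := hS B hB
    exact (eq_or_coprime (hl x hx) (hl y hy)).resolve_left hne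
  · intro A hA
    obtain ⟨x, hx, rfl⟩ := hS A hA
    exact hM x hx

omit [Fintype F] in
theorem X_pow_sub_one_dvd {M N : ℕ} (h : M ∣ N) : (X ^ M - 1 : F[X]) ∣ X ^ N - 1 := by
  obtain ⟨c, rfl⟩ := h
  rw [pow_mul]
  simpa using sub_dvd_pow_sub_pow ((X : F[X]) ^ M) 1 c

omit [Fintype F] in
theorem exists_split_atom {l : List (F[X] × ℕ)} {x : F[X] × ℕ} (hx : x ∈ l) :
    ∃ l', List.Perm l (x :: l') := by
  classical exact ⟨l.erase x, List.perm_cons_erase hx⟩

/-- Any self-reciprocal octic over a field of even order divides some `X^(2^t M) - 1` on the list. -/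
theorem exists_specList [CharP F 2] (P : F[X]) (hP : P.Monic) (h0 : P.coeff 0 ≠ 0) (hrev : rev P = P)
    (h8 : P.natDegree = 8) (heven : Even (Fintype.card F)) :
    ∃ t M, Odd M ∧ P ∣ (X ^ M - 1) ^ 2 ^ t ∧ Even (P.rootMultiplicity 1) ∧
      P.rootMultiplicity 1 ≤ 2 ^ t ∧ SpecList (Fintype.card F) (2 ^ t * M) := by
  classical
  obtain ⟨a, l, hl, hPl, hdeg⟩ := exists_atoms P hP h0 hrev
  rw [h8] at hdeg
  have ha : P.rootMultiplicity 1 = a := by
    have h1 : ¬ (l.map Prod.fst).prod.IsRoot 1 := by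
      intro hr
      rw [IsRoot, eval_list_prod, List.prod_eq_zero_iff, List.mem_map] at hr
      obtain ⟨A, hA, hA1⟩ := hr
      rw [List.mem_map] at hA
      obtain ⟨x, hx, rfl⟩ := hA
      have hu := (hl x hx).coprime.isUnit_of_dvd' (dvd_iff_isRoot.2 (hA1 : (x.1).IsRoot 1)) (by simp)
      exact not_isUnit_X_sub_C 1 hu
    rw [hPl, rootMultiplicity_mul, ← C_1, rootMultiplicity_X_sub_C_pow,
      rootMultiplicity_eq_zero h1, add_zero]
    intro h
    rw [← hPl] at h
    exact hP.ne_zero h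
  rw [ha]
  suffices h : ∃ t M, Odd M ∧ (∀ x ∈ l, x.1 ∣ X ^ M - 1) ∧
      (∀ x ∈ l, (l.map Prod.fst).count x.1 ≤ 2 ^ t) ∧ a ≤ 2 ^ t ∧
      SpecList (Fintype.card F) (2 ^ t * M) by
    obtain ⟨t, M, h1, h2, h3, h4, h5⟩ := h
    exact ⟨t, M, h1, hPl ▸ prod_dvd l hl h2 h3 h4, by rw [Nat.even_iff]; omega, h4, h5⟩
  clear hPl ha
  set q := Fintype.card F with hq
  have hq1 : 1 < q := Fintype.one_lt_card
  have ho1 : ∀ k, 1 ≤ k → Odd (q ^ k + 1) := fun k hk => (heven.pow_of_ne_zero (by omega)).add_one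
  have ho2 : ∀ k, 1 ≤ k → Odd (q ^ k - 1) := fun k hk =>
    Nat.Even.sub_odd (Nat.one_le_pow _ _ (by omega)) (heven.pow_of_ne_zero (by omega)) odd_one
  have hoq : Odd (q + 1) := by simpa using ho1 1 le_rfl
  have hoq' : Odd (q - 1) := by simpa using ho2 1 le_rfl
  have e2 : q ^ 2 - 1 = (q + 1) * (q - 1) := by simpa using Nat.sq_sub_sq q 1
  have e4 : q ^ 4 - 1 = (q ^ 2 + 1) * (q ^ 2 - 1) := by
    have := Nat.sq_sub_sq (q ^ 2) 1
    rw [← pow_mul, one_pow] at this
    simpa using this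
  have d1 : ∀ x ∈ l, x.2 = 1 → x.1 ∣ X ^ (q ^ 2 - 1) - 1 := by
    intro x hx h
    rcases (hl x hx).dvd with h' | h' <;> rw [h, pow_one] at h' <;>
      refine h'.trans (X_pow_sub_one_dvd ?_) <;> rw [e2]
    · exact dvd_mul_left _ _
    · exact dvd_mul_right _ _
  have d2 : ∀ x ∈ l, x.2 = 2 → x.1 ∣ X ^ (q ^ 4 - 1) - 1 := by
    intro x hx h
    rcases (hl x hx).dvd with h' | h' <;> rw [h] at h' <;>
      refine h'.trans (X_pow_sub_one_dvd ?_) <;> rw [e4]
    · exact dvd_mul_left _ _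
    · exact dvd_mul_right _ _
  -- two copies of an atom of degree two among the atoms bound the multiplicities
  have hcnt : ∀ (t : ℕ) (l' : List (F[X] × ℕ)), List.Perm l l' →
      (∀ x ∈ l', (l'.map Prod.fst).count x.1 ≤ 2 ^ t) → ∀ x ∈ l, (l.map Prod.fst).count x.1 ≤ 2 ^ t :=
    fun t l' hp h x hx => (hp.map Prod.fst).count_eq _ ▸ h x (hp.mem_iff.1 hx)
  have hsum : ∀ l', List.Perm l l' → a + 2 * (l'.map Prod.snd).sum = 8 := fun l' hp => by
    rw [← (hp.map Prod.snd).sum_eq]; exact hdeg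
  by_cases h4 : ∃ x ∈ l, x.2 = 4
  · obtain ⟨x, hx, hx4⟩ := h4
    obtain ⟨l', hp⟩ := exists_split_atom hx
    have hs := hsum _ hp
    simp only [List.map_cons, List.sum_cons, hx4] at hs
    have hl' : l' = [] := by
      rcases l' with _ | ⟨y, l''⟩
      · rfl
      · have := (hl y (hp.mem_iff.2 (by simp))).pos
        simp at hs
        omega
    subst hl'
    rcases (hl x hx).dvd with h' | h' <;> rw [hx4] at h'
    · exact ⟨0, q ^ 4 - 1, ho2 4 (by norm_num), fun y hy => by
        rw [List.mem_singleton.1 (hp.mem_iff.1 hy)]; exact h', hcnt 0 _ hp (by simp),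
        by simp at hs ⊢; omega, by simp [SpecList]⟩
    · exact ⟨0, q ^ 4 + 1, ho1 4 (by norm_num), fun y hy => by
        rw [List.mem_singleton.1 (hp.mem_iff.1 hy)]; exact h', hcnt 0 _ hp (by simp),
        by simp at hs ⊢; omega, by simp [SpecList]⟩
  by_cases h3 : ∃ x ∈ l, x.2 = 3
  · obtain ⟨x, hx, hx3⟩ := h3
    obtain ⟨l', hp⟩ := exists_split_atom hx
    have hs := hsum _ hp
    simp only [List.map_cons, List.sum_cons, hx3] at hs
    rcases l' with _ | ⟨y, _ | ⟨z, l''⟩⟩
    · rcases (hl x hx).dvd with h' | h' <;> rw [hx3] at h'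
      · exact ⟨1, q ^ 3 - 1, ho2 3 (by norm_num), fun w hw => by
          rw [List.mem_singleton.1 (hp.mem_iff.1 hw)]; exact h', hcnt 1 _ hp (by simp),
          by simp at hs ⊢; omega, by simp [SpecList]⟩
      · exact ⟨1, q ^ 3 + 1, ho1 3 (by norm_num), fun w hw => by
          rw [List.mem_singleton.1 (hp.mem_iff.1 hw)]; exact h', hcnt 1 _ hp (by simp),
          by simp at hs ⊢; omega, by simp [SpecList]⟩
    · have hy : y ∈ l := hp.mem_iff.2 (by simp)
      have hy1 : y.2 = 1 := by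
        have := (hl y hy).pos
        simp at hs
        omega
      have hne : x.1 ≠ y.1 := fun h => by
        have h1 := (hl x hx).natDeg
        rw [h, (hl y hy).natDeg] at h1
        omega
      have hc : ∀ w ∈ [x, y], ([x, y].map Prod.fst).count w.1 ≤ 2 ^ 0 := by
        intro w hw
        rcases List.mem_pair.1 hw with rfl | rfl <;> simp [hne, hne.symm]
      have hmem : ∀ M, x.1 ∣ X ^ M - 1 → y.1 ∣ X ^ M - 1 → ∀ w ∈ l, w.1 ∣ X ^ M - 1 := by
        intro M hxM hyM w hw
        rcases List.mem_pair.1 (hp.mem_iff.1 hw) with rfl | rfl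
        · exact hxM
        · exact hyM
      have ha0 : a ≤ 2 ^ 0 := by simp at hs ⊢; omega
      have hy' := (hl y hy).dvd
      rw [hy1, pow_one] at hy'
      have hd3p : q + 1 ∣ q ^ 3 + 1 := by simpa using (show Odd 3 by decide).nat_add_dvd_pow_add_pow q 1
      have hd3m : q - 1 ∣ q ^ 3 - 1 := by simpa using Nat.sub_dvd_pow_sub_pow q 1 3
      rcases (hl x hx).dvd with h' | h' <;> rw [hx3] at h' <;> rcases hy' with hy' | hy'
      · exact ⟨0, q ^ 3 - 1, ho2 3 (by norm_num), hmem _ h' (hy'.trans (X_pow_sub_one_dvd hd3m)),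
          hcnt 0 _ hp hc, ha0, by
            refine SpecList.of_dvd (M := (q ^ 3 - 1) * (q + 1)) (by simp [SpecList]) ?_
            simp⟩
      · exact ⟨0, (q ^ 3 - 1) * (q + 1), (ho2 3 (by norm_num)).mul hoq,
          hmem _ (h'.trans (X_pow_sub_one_dvd (dvd_mul_right _ _)))
            (hy'.trans (X_pow_sub_one_dvd (dvd_mul_left _ _))),
          hcnt 0 _ hp hc, ha0, by simp [SpecList]⟩
      · exact ⟨0, (q ^ 3 + 1) * (q - 1), (ho1 3 (by norm_num)).mul hoq',
          hmem _ (h'.trans (X_pow_sub_one_dvd (dvd_mul_right _ _)))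
            (hy'.trans (X_pow_sub_one_dvd (dvd_mul_left _ _))),
          hcnt 0 _ hp hc, ha0, by simp [SpecList]⟩
      · exact ⟨0, q ^ 3 + 1, ho1 3 (by norm_num), hmem _ h' (hy'.trans (X_pow_sub_one_dvd hd3p)),
          hcnt 0 _ hp hc, ha0, by
            refine SpecList.of_dvd (M := (q ^ 3 + 1) * (q - 1)) (by simp [SpecList]) ?_
            simp⟩
    · have := (hl y (hp.mem_iff.2 (by simp))).pos
      have := (hl z (hp.mem_iff.2 (by simp))).pos
      simp at hs
      omega
  push Not at h4 h3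
  have hle : ∀ x ∈ l, x.2 = 1 ∨ x.2 = 2 := by
    intro x hx
    have := (hl x hx).pos
    have h5 := List.le_sum_of_mem (List.mem_map.2 ⟨x, hx, rfl⟩ : x.2 ∈ l.map Prod.snd)
    have := h3 x hx
    have := h4 x hx
    omega
  by_cases h2 : ∃ x ∈ l, x.2 = 2
  swap
  · push Not at h2
    have hone : ∀ x ∈ l, x.2 = 1 := fun x hx => (hle x hx).resolve_right (h2 x hx)
    have hlen : a + 2 * l.length = 8 := by
      have : l.map Prod.snd = List.replicate l.length 1 :=
        List.eq_replicate_iff.2 ⟨by simp, fun b hb => by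
          obtain ⟨x, hx, rfl⟩ := List.mem_map.1 hb; exact hone x hx⟩
      rw [this] at hdeg
      simpa using hdeg
    have hcl : ∀ t, l.length ≤ 2 ^ t → ∀ x ∈ l, (l.map Prod.fst).count x.1 ≤ 2 ^ t := fun t h x _ =>
      List.count_le_length.trans (by simpa using h)
    rcases l with _ | ⟨x, _ | ⟨y, l'⟩⟩
    · exact ⟨3, 1, odd_one, by simp, by simp, by simp at hlen ⊢; omega, by simp [SpecList]⟩
    · have hx' := (hl x (by simp)).dvd
      rw [hone x (by simp), pow_one] at hx'
      rcases hx' with hx' | hx'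
      · exact ⟨3, q - 1, hoq', fun w hw => by rw [List.mem_singleton.1 hw]; exact hx', hcl 3 (by simp),
          by simp at hlen ⊢; omega, by simp [SpecList]⟩
      · exact ⟨3, q + 1, hoq, fun w hw => by rw [List.mem_singleton.1 hw]; exact hx', hcl 3 (by simp),
          by simp at hlen ⊢; omega, by simp [SpecList]⟩
    · exact ⟨2, q ^ 2 - 1, ho2 2 (by norm_num), fun w hw => d1 w hw (hone w hw),
        hcl 2 (by simp at hlen ⊢; omega), by simp at hlen ⊢; omega, by simp [SpecList]⟩
  obtain ⟨x, hx, hx2⟩ := h2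
  obtain ⟨l', hp⟩ := exists_split_atom hx
  have hs := hsum _ hp
  simp only [List.map_cons, List.sum_cons, hx2] at hs
  have hy2 : ∀ y ∈ l', y.2 = 1 ∨ y.2 = 2 := fun y hy => hle y (hp.mem_iff.2 (by simp [hy]))
  have hx' := (hl x hx).dvd
  rw [hx2] at hx'
  rcases l' with _ | ⟨y, l'⟩
  · rcases hx' with h' | h'
    · exact ⟨2, q ^ 2 - 1, ho2 2 (by norm_num), fun w hw => by
        rw [List.mem_singleton.1 (hp.mem_iff.1 hw)]; exact h', hcnt 2 _ hp (by simp),
        by simp at hs ⊢; omega, by simp [SpecList]⟩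
    · exact ⟨2, q ^ 2 + 1, ho1 2 (by norm_num), fun w hw => by
        rw [List.mem_singleton.1 (hp.mem_iff.1 hw)]; exact h', hcnt 2 _ hp (by simp),
        by simp at hs ⊢; omega, by simp [SpecList]⟩
  have hy : y ∈ l := hp.mem_iff.2 (by simp)
  rcases l' with _ | ⟨z, l'⟩
  · have hmem : ∀ M, x.1 ∣ X ^ M - 1 → y.1 ∣ X ^ M - 1 → ∀ w ∈ l, w.1 ∣ X ^ M - 1 := by
      intro M hxM hyM w hw
      rcases List.mem_pair.1 (hp.mem_iff.1 hw) with rfl | rfl
      · exact hxM
      · exact hyM
    rcases hy2 y (by simp) with hy1 | hy1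
    · have hne : x.1 ≠ y.1 := fun h => by
        have h1 := (hl x hx).natDeg
        rw [h, (hl y hy).natDeg] at h1
        omega
      have hc : ∀ w ∈ [x, y], ([x, y].map Prod.fst).count w.1 ≤ 2 ^ 1 := by
        intro w hw
        rcases List.mem_pair.1 hw with rfl | rfl <;> simp [hne, hne.symm]
      have hy' := (hl y hy).dvd
      rw [hy1, pow_one] at hy'
      have ha1 : a ≤ 2 ^ 1 := by simp [hy1] at hs ⊢; omega
      rcases hx' with h' | h'
      · refine ⟨1, q ^ 2 - 1, ho2 2 (by norm_num), hmem _ h' (d1 y hy hy1), hcnt 1 _ hp hc, ha1, ?_⟩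
        exact SpecList.of_dvd (M := 4 * (q ^ 2 - 1)) (by simp [SpecList]) (mul_dvd_mul_right (by norm_num) _)
      · rcases hy' with hy' | hy'
        · exact ⟨1, (q ^ 2 + 1) * (q - 1), (ho1 2 (by norm_num)).mul hoq',
            hmem _ (h'.trans (X_pow_sub_one_dvd (dvd_mul_right _ _)))
              (hy'.trans (X_pow_sub_one_dvd (dvd_mul_left _ _))),
            hcnt 1 _ hp hc, ha1, by simp [SpecList]⟩
        · exact ⟨1, (q ^ 2 + 1) * (q + 1), (ho1 2 (by norm_num)).mul hoq,
            hmem _ (h'.trans (X_pow_sub_one_dvd (dvd_mul_right _ _)))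
              (hy'.trans (X_pow_sub_one_dvd (dvd_mul_left _ _))),
            hcnt 1 _ hp hc, ha1, by simp [SpecList]⟩
    · have ha0 : a = 0 := by simp [hy1] at hs; omega
      by_cases hne : x.1 = y.1
      · have hc : ∀ w ∈ [x, y], ([x, y].map Prod.fst).count w.1 ≤ 2 ^ 1 := fun w _ =>
          List.count_le_length.trans (by simp)
        rcases hx' with h' | h'
        · refine ⟨1, q ^ 2 - 1, ho2 2 (by norm_num), hmem _ h' (hne ▸ h'), hcnt 1 _ hp hc, by omega, ?_⟩
          exact SpecList.of_dvd (M := 4 * (q ^ 2 - 1)) (by simp [SpecList]) (mul_dvd_mul_right (by norm_num) _)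
        · refine ⟨1, q ^ 2 + 1, ho1 2 (by norm_num), hmem _ h' (hne ▸ h'), hcnt 1 _ hp hc, by omega, ?_⟩
          exact SpecList.of_dvd (M := 4 * (q ^ 2 + 1)) (by simp [SpecList]) (mul_dvd_mul_right (by norm_num) _)
      · have hc : ∀ w ∈ [x, y], ([x, y].map Prod.fst).count w.1 ≤ 2 ^ 0 := by
          intro w hw
          rcases List.mem_pair.1 hw with rfl | rfl <;> simp [hne, Ne.symm hne]
        exact ⟨0, q ^ 4 - 1, ho2 4 (by norm_num), hmem _ (d2 x hx hx2) (d2 y hy hy1),
          hcnt 0 _ hp hc, by omega, by simp [SpecList]⟩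
  -- one atom of degree four and two of degree two
  have hz : z ∈ l := hp.mem_iff.2 (by simp)
  have hpy := (hl y hy).pos
  have hpz := (hl z hz).pos
  have hl'' : l' = [] := by
    rcases l' with _ | ⟨w, l''⟩
    · rfl
    · have := (hl w (hp.mem_iff.2 (by simp))).pos
      simp at hs
      omega
  subst hl''
  have hy1 : y.2 = 1 := by simp at hs; omega
  have hz1 : z.2 = 1 := by simp at hs; omega
  have ha0 : a = 0 := by simp [hy1, hz1] at hs; omega
  have hxy : x.1 ≠ y.1 := fun h => by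
    have h1 := (hl x hx).natDeg
    rw [h, (hl y hy).natDeg] at h1
    omega
  have hxz : x.1 ≠ z.1 := fun h => by
    have h1 := (hl x hx).natDeg
    rw [h, (hl z hz).natDeg] at h1
    omega
  have hmem : ∀ M, x.1 ∣ X ^ M - 1 → y.1 ∣ X ^ M - 1 → z.1 ∣ X ^ M - 1 → ∀ w ∈ l, w.1 ∣ X ^ M - 1 := by
    intro M hxM hyM hzM w hw
    have := hp.mem_iff.1 hw
    simp only [List.mem_cons, List.not_mem_nil, or_false] at this
    rcases this with rfl | rfl | rfl <;> assumption
  by_cases hyz : y.1 = z.1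
  · have hc : ∀ w ∈ [x, y, z], ([x, y, z].map Prod.fst).count w.1 ≤ 2 ^ 1 := by
      intro w hw
      simp only [List.mem_cons, List.not_mem_nil, or_false] at hw
      rcases hw with rfl | rfl | rfl <;> simp [hxz, hxz.symm, hyz]
    have hy' := (hl y hy).dvd
    rw [hy1, pow_one] at hy'
    rcases hx' with h' | h'
    · refine ⟨1, q ^ 2 - 1, ho2 2 (by norm_num), hmem _ h' (d1 y hy hy1) (d1 z hz hz1),
        hcnt 1 _ hp hc, by omega, ?_⟩
      exact SpecList.of_dvd (M := 4 * (q ^ 2 - 1)) (by simp [SpecList]) (mul_dvd_mul_right (by norm_num) _)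
    · rcases hy' with hy' | hy'
      · have hyM := hy'.trans (X_pow_sub_one_dvd (dvd_mul_left (q - 1) (q ^ 2 + 1)))
        exact ⟨1, (q ^ 2 + 1) * (q - 1), (ho1 2 (by norm_num)).mul hoq',
          hmem _ (h'.trans (X_pow_sub_one_dvd (dvd_mul_right _ _))) hyM (hyz ▸ hyM),
          hcnt 1 _ hp hc, by omega, by simp [SpecList]⟩
      · have hyM := hy'.trans (X_pow_sub_one_dvd (dvd_mul_left (q + 1) (q ^ 2 + 1)))
        exact ⟨1, (q ^ 2 + 1) * (q + 1), (ho1 2 (by norm_num)).mul hoq,
          hmem _ (h'.trans (X_pow_sub_one_dvd (dvd_mul_right _ _))) hyM (hyz ▸ hyM),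
          hcnt 1 _ hp hc, by omega, by simp [SpecList]⟩
  · have hc : ∀ w ∈ [x, y, z], ([x, y, z].map Prod.fst).count w.1 ≤ 2 ^ 0 := by
      intro w hw
      simp only [List.mem_cons, List.not_mem_nil, or_false] at hw
      rcases hw with rfl | rfl | rfl <;> simp [hxy, hxz, hxy.symm, hxz.symm, hyz, Ne.symm hyz]
    have h24 : q ^ 2 - 1 ∣ q ^ 4 - 1 := by rw [e4]; exact dvd_mul_left _ _
    exact ⟨0, q ^ 4 - 1, ho2 4 (by norm_num),
      hmem _ (d2 x hx hx2) ((d1 y hy hy1).trans (X_pow_sub_one_dvd h24))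
        ((d1 z hz hz1).trans (X_pow_sub_one_dvd h24)),
      hcnt 0 _ hp hc, by omega, by simp [SpecList]⟩

end Finite

end CfsgLib.OrthTwo
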