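import Cfsg.Agent.OrthTwo.Classify
import Cfsg.Agent.OrthTwo.EightDim

/-!
# Tori of orders `q ^ k - 1` and `q ^ k + 1`

A cyclic torus of order `q ^ k - 1` acts on the hyperbolic form in dimension `2 k`.  The norm-one
elements of the field of degree `2 k` act on a form without Lagrangian, hence on the minus form.
-/

set_option autoImplicit false

namespace CfsgLib.OrthTwo

open Module QuadraticMap Matrix

variable {F : Type*} [Field F] [Fintype F] [CharP F 2]

/-- An isometry of order `q ^ k - 1` of the hyperbolic form. -/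
theorem isoOrder_hyp {k : ℕ} (hk : 1 ≤ k) : IsoOrder (hyp F k) (Fintype.card F ^ k - 1) := by
  classical
  haveI : Fact (Nat.Prime 2) := ⟨Nat.prime_two⟩
  haveI : NeZero k := ⟨by omega⟩
  let K := FiniteField.Extension F 2 k
  haveI : Finite K := Module.finite_of_finite F
  let b : Module.Basis (Fin k) F K :=
    Module.finBasisOfFinrankEq F K (FiniteField.finrank_extension F 2 k)
  obtain ⟨y, hy⟩ := IsCyclic.exists_ofOrder_eq_natCard (α := Kˣ)
  rw [Nat.card_units, FiniteField.natCard_extension, Nat.card_eq_fintype_card] at hy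
  let L := Algebra.leftMulMatrix b
  let T : Kˣ →* Module.End F ((Fin k → F) × (Fin k → F)) :=
    { toFun := fun u => (L (u : K)).mulVecLin.prodMap ((L ((u⁻¹ : Kˣ) : K))ᵀ).mulVecLin
      map_one' := LinearMap.ext fun x => by simp
      map_mul' := fun u v => LinearMap.ext fun x => by
        simp only [_root_.mul_inv_rev, Units.val_mul, map_mul, transpose_mul, Matrix.mulVecLin_mul,
          Module.End.mul_apply, LinearMap.prodMap_apply, LinearMap.comp_apply] }
  let f : Kˣ →* (((Fin k → F) × (Fin k → F)) ≃ₗ[F] ((Fin k → F) × (Fin k → F))) :=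
    (LinearMap.GeneralLinearGroup.generalLinearEquiv F _).toMonoidHom.comp T.toHomUnits
  have hf : ∀ u x, f u x = (L (u : K) *ᵥ x.1, (L ((u⁻¹ : Kˣ) : K))ᵀ *ᵥ x.2) := fun u x => rfl
  have hinj : Function.Injective f := by
    intro u v huv
    refine Units.ext (Algebra.leftMulMatrix_injective b (Matrix.toLin'.injective ?_))
    refine LinearMap.ext fun x => ?_
    have := congrArg Prod.fst (LinearEquiv.congr_fun huv (x, 0))
    simpa [hf, L] using this
  refine ⟨f y, fun x => ?_, by rw [orderOf_injective f hinj, hy]⟩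
  rw [hf, hyp_apply, hyp_apply]
  change L (y : K) *ᵥ x.1 ⬝ᵥ ((L ((y⁻¹ : Kˣ) : K))ᵀ *ᵥ x.2) = x.1 ⬝ᵥ x.2
  rw [Matrix.mulVec_transpose, dotProduct_comm, ← Matrix.dotProduct_mulVec, Matrix.mulVec_mulVec,
    ← map_mul, Units.inv_mul, map_one, Matrix.one_mulVec, dotProduct_comm]

/-- The number of zeros of a form with a Lagrangian. -/
theorem card_zeros_of_lagrangian {V : Type*} [AddCommGroup V] [Module F V] [FiniteDimensional F V]
    (Q : QuadraticForm F V) (hnd : (polarBilin Q).Nondegenerate) {k : ℕ} (hd : finrank F V = 2 * k)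
    (W : Submodule F V) (hts : ∀ w ∈ W, Q w = 0)
    (hperp : ∀ x, (∀ w ∈ W, polar Q x w = 0) → x ∈ W) :
    Fintype.card F * Nat.card {x : V // Q x = 0} =
      Fintype.card F ^ (k + 1) + (Fintype.card F ^ k - 1) * Fintype.card F ^ k := by
  classical
  haveI : Finite V := Module.finite_of_finite F
  haveI := Fintype.ofFinite V
  set q := Fintype.card F with hq
  let B : LinearMap.BilinForm F V := polarBilin Q
  have hB : ∀ u v, B u v = polar Q u v := fun u v => rfl
  have heq : B.orthogonal W = W := by
    refine le_antisymm (fun x hx => hperp x fun w hw => by rw [polar_comm]; exact hx w hw) ?_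
    intro x hx w hw
    rw [hB, polar, hts _ (W.add_mem hw hx), hts w hw, hts x hx, sub_zero, sub_zero]
  have hdW : finrank F W = k := by
    have h := LinearMap.BilinForm.finrank_orthogonal (B := B) hnd W
    rw [heq, hd] at h
    have hle := W.finrank_le
    omega
  obtain ⟨C, hC⟩ := Submodule.exists_isCompl W
  let e := Submodule.prodEquivOfIsCompl W C hC
  have hdC : finrank F C = k := by
    have := Submodule.finrank_add_eq_of_isCompl hC
    omega
  have hQ : ∀ (w : W) (c : C), Q (e (w, c)) = Q c + polar Q w c := fun w c => by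
    rw [Submodule.coe_prodEquivOfIsCompl', QuadraticMap.map_add (⇑Q), hts _ w.2, zero_add]
  let ψ : C → (W →ₗ[F] F) := fun c => ((polarBilin Q).flip (c : V)).comp W.subtype
  have hψ : ∀ (c : C) (w : W), ψ c w = polar Q w c := fun c w => rfl
  let Φ : {x : V // Q x = 0} ≃ Σ c : C, {w : W // ψ c w = Q c} :=
    { toFun := fun x => ⟨(e.symm x).2, (e.symm x).1, by
        have := hQ (e.symm x).1 (e.symm x).2
        rw [Prod.mk.eta, e.apply_symm_apply, x.2] at this
        rw [hψ]
        exact (CharTwo.add_eq_zero.1 this.symm).symm⟩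
      invFun := fun p => ⟨e (p.2.1, p.1), by
        rw [hQ, ← hψ, p.2.2, CharTwo.add_self_eq_zero]⟩
      left_inv := fun x => Subtype.ext (by simp)
      right_inv := fun p => by
        obtain ⟨c, w, hw⟩ := p
        have h := e.symm_apply_apply (w, c)
        refine Sigma.subtype_ext (congrArg Prod.snd h) ?_
        exact congrArg Prod.fst h }
  rw [Nat.card_congr Φ, Nat.card_sigma, Finset.mul_sum]
  have hfib : ∀ c : C, q * Nat.card {w : W // ψ c w = Q c} = if c = 0 then q ^ (k + 1) else q ^ k := by
    intro c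
    split_ifs with hc
    · subst hc
      have : ∀ w : W, ψ 0 w = Q ((0 : C) : V) := fun w => by simp [hψ]
      rw [Nat.card_congr (Equiv.subtypeUnivEquiv this), Module.natCard_eq_pow_finrank (K := F),
        Nat.card_eq_fintype_card, hdW, pow_succ']
    · have hne : ψ c ≠ 0 := fun h0 => hc <| by
        have hcW : (c : V) ∈ W := hperp _ fun w hw => by
          rw [polar_comm]
          exact LinearMap.congr_fun h0 ⟨w, hw⟩
        exact Subtype.ext ((Submodule.disjoint_def.1 hC.disjoint) _ hcW c.2)
      have hs : Function.Surjective (ψ c) := by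
        rcases (ψ c).surjective_or_eq_zero with h | h
        · exact h
        · exact absurd h hne
      obtain ⟨w₀, hw₀⟩ := hs (Q c)
      let τ : {w : W // ψ c w = Q c} ≃ LinearMap.ker (ψ c) :=
        { toFun := fun w => ⟨w.1 - w₀, by rw [LinearMap.mem_ker, map_sub, w.2, hw₀, sub_self]⟩
          invFun := fun w => ⟨w.1 + w₀, by rw [map_add, LinearMap.mem_ker.1 w.2, hw₀, zero_add]⟩
          left_inv := fun w => Subtype.ext (sub_add_cancel _ _)
          right_inv := fun w => Subtype.ext (add_sub_cancel_right _ _) }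
      have hr := (ψ c).finrank_range_add_finrank_ker
      rw [LinearMap.range_eq_top.2 hs, finrank_top, Module.finrank_self, hdW] at hr
      rw [Nat.card_congr τ, Module.natCard_eq_pow_finrank (K := F), Nat.card_eq_fintype_card,
        ← pow_succ', add_comm, hr]
  rw [Finset.sum_congr rfl fun c _ => hfib c, ← Finset.add_sum_erase _ _ (Finset.mem_univ (0 : C)),
    if_pos rfl, Finset.sum_congr rfl fun c hc => if_neg (Finset.ne_of_mem_erase hc), Finset.sum_const,
    Finset.card_erase_of_mem (Finset.mem_univ _), Finset.card_univ, ← Nat.card_eq_fintype_card,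
    Module.natCard_eq_pow_finrank (K := F), Nat.card_eq_fintype_card, hdC, smul_eq_mul]

/-- An isometry of order `q ^ (j + 1) + 1` of the minus form. -/
theorem isoOrder_minus {a b : F} (hab : Aniso a b) (j : ℕ) :
    IsoOrder ((hyp F j).prod (bin a b)) (Fintype.card F ^ (j + 1) + 1) := by
  classical
  haveI : Fact (Nat.Prime 2) := ⟨Nat.prime_two⟩
  set k := j + 1 with hk
  haveI : NeZero (2 * k) := ⟨by omega⟩
  let K := FiniteField.Extension F 2 (2 * k)
  haveI : Finite K := Module.finite_of_finite F
  haveI : CharP K 2 := charP_of_injective_algebraMap (algebraMap F K).injective 2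
  set q := Fintype.card F with hq
  have hK : finrank F K = 2 * k := FiniteField.finrank_extension F 2 (2 * k)
  let σ := FiniteField.frobeniusAlgEquivOfAlgebraic F K
  let φ : K ≃ₐ[F] K := σ ^ k
  have hσ : orderOf σ = 2 * k := (FiniteField.orderOf_frobeniusAlgEquivOfAlgebraic F K).trans hK
  have hφpow : ∀ x, φ x = x ^ q ^ k := fun x => by
    change (σ ^ k) x = _
    rw [AlgEquiv.coe_pow]
    exact congrFun (FiniteField.coe_frobeniusAlgEquivOfAlgebraic_iterate F K k) x
  have hφ2 : ∀ x, φ (φ x) = x := fun x => by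
    change (σ ^ k * σ ^ k) x = x
    rw [← pow_add, ← two_mul, orderOf_dvd_iff_pow_eq_one.1 (dvd_of_eq hσ)]
    rfl
  obtain ⟨d, hd⟩ : ∃ d, d + φ d ≠ 0 := by
    by_contra! h
    refine pow_ne_one_of_lt_orderOf (x := σ) (n := k) (by omega) (by omega) (AlgEquiv.ext fun x => ?_)
    exact (CharTwo.add_eq_zero.1 (h x)).symm
  set c := d / (d + φ d) with hc
  have hc1 : c + φ c = 1 := by
    rw [hc, map_div₀, map_add, hφ2, add_comm (φ d) d, ← add_div, div_self hd]
  have htr : ∀ x, Algebra.trace F K (φ x) = Algebra.trace F K x :=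
    fun x => Algebra.trace_eq_of_algEquiv φ x
  let B : LinearMap.BilinMap F K F :=
    (Algebra.traceForm F K).compl₁₂ (LinearMap.mulLeft F c) φ.toLinearMap
  let Q : QuadraticForm F K := B.toQuadraticMap
  have hQ : ∀ x, Q x = Algebra.trace F K (c * x * φ x) := fun x => rfl
  have hpolar : ∀ x y, polar Q x y = Algebra.trace F K (x * φ y) := fun x y => by
    rw [LinearMap.BilinMap.polar_toQuadraticMap]
    change Algebra.trace F K (c * x * φ y) + Algebra.trace F K (c * y * φ x) = _
    rw [← htr (c * y * φ x), map_mul φ, map_mul φ, hφ2, ← map_add]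
    congr 1
    linear_combination (x * φ y) * hc1
  have hnd : (polarBilin Q).Nondegenerate := by
    have key : ∀ x, (∀ y, polar Q x y = 0) → x = 0 := fun x hx =>
      (traceForm_nondegenerate F K).1 x fun y => by
        have := hx (φ y)
        rwa [hpolar, hφ2] at this
    exact ⟨fun x hx => key x hx, fun x hx => key x fun y => by rw [polar_comm]; exact hx y⟩
  -- the norm-one torus
  obtain ⟨y, hy⟩ := IsCyclic.exists_ofOrder_eq_natCard (α := Kˣ)
  rw [Nat.card_units, FiniteField.natCard_extension, Nat.card_eq_fintype_card, ← hq] at hy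
  have hq1 : 1 < q := Fintype.one_lt_card
  have hqk : 1 < q ^ k := Nat.one_lt_pow (by omega) hq1
  have hfac : q ^ (2 * k) - 1 = (q ^ k + 1) * (q ^ k - 1) := by
    rw [mul_comm 2 k, pow_mul, ← Nat.sq_sub_sq, one_pow]
  set z := y ^ (q ^ k - 1) with hz
  have hzord : orderOf z = q ^ k + 1 := by
    rw [hz, orderOf_pow' _ (by omega), hy, hfac, Nat.gcd_mul_left_left, Nat.mul_div_cancel _ (by omega)]
  have hznorm : (z : K) * φ z = 1 := by
    rw [hφpow, ← pow_succ', ← hzord, ← Units.val_pow_eq_pow_val, pow_orderOf_eq_one, Units.val_one]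
  let f : Kˣ →* (K ≃ₗ[F] K) :=
    (LinearMap.GeneralLinearGroup.generalLinearEquiv F K).toMonoidHom.comp
      (Units.map (Algebra.lmul F K).toMonoidHom)
  have hf : ∀ (u : Kˣ) (x : K), f u x = (u : K) * x := fun u x => rfl
  have hmul : ∀ x : K, Q ((z : K) * x) = Q x := fun x => by
    rw [hQ, hQ, map_mul φ]
    congr 1
    linear_combination (c * x * φ x) * hznorm
  have hiso : IsoOrder Q (q ^ k + 1) := by
    refine ⟨f z, fun x => hmul x, ?_⟩
    rw [orderOf_injective f ?_, hzord]
    intro u v huv
    have := LinearEquiv.congr_fun huv 1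
    exact Units.ext (by simpa [hf] using this)
  -- no Lagrangian
  have hL : NoLagrangian Q := by
    intro W hts hperp
    have hcount := card_zeros_of_lagrangian Q hnd hK W hts hperp
    rw [← hq] at hcount
    set H := Subgroup.zpowers z
    let S : Set (Kˣ ⧸ H) := QuotientGroup.mk '' {u : Kˣ | Q (u : K) = 0}
    have hsat : ∀ u : Kˣ, ((u : Kˣ ⧸ H) ∈ S ↔ Q (u : K) = 0) := by
      intro u
      refine ⟨?_, fun h => ⟨u, h, rfl⟩⟩
      rintro ⟨v, hv, hvu⟩
      obtain ⟨n, hn⟩ := Subgroup.mem_zpowers_iff.1 (QuotientGroup.eq.1 hvu)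
      obtain ⟨m, hm⟩ := (mem_powers_iff_mem_zpowers.2 ⟨n, rfl⟩ : z ^ n ∈ Submonoid.powers z)
      have hmv : u = z ^ m * v := by
        have hm' : z ^ m = v⁻¹ * u := hm.trans hn
        calc u = (v⁻¹ * u) * v := by rw [mul_comm (v⁻¹ * u) v, mul_inv_cancel_left]
          _ = z ^ m * v := by rw [hm']
      have : ∀ m : ℕ, Q (((z ^ m * v : Kˣ) : K)) = 0 := by
        intro m
        induction m with
        | zero => simpa using hv
        | succ m ih => rw [pow_succ', mul_assoc, Units.val_mul, hmul, ih]
      rw [hmv]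
      exact this m
    let ι : QuotientGroup.mk ⁻¹' S ⊕ Unit ≃ {x : K // Q x = 0} :=
      Equiv.ofBijective (Sum.elim (fun u => ⟨(u.1 : K), (hsat _).1 u.2⟩) fun _ => ⟨0, QuadraticMap.map_zero Q⟩)
        ⟨by
          rintro (u | u) (v | v) h <;> simp only [Sum.elim_inl, Sum.elim_inr, Subtype.mk.injEq] at h
          · exact congrArg Sum.inl (Subtype.ext (Units.ext h))
          · exact absurd h u.1.ne_zero
          · exact absurd h.symm v.1.ne_zero
          · rfl,
        fun x => by
          by_cases hx : x.1 = 0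
          · exact ⟨Sum.inr (), Subtype.ext hx.symm⟩
          · exact ⟨Sum.inl ⟨Units.mk0 x.1 hx, (hsat _).2 x.2⟩, rfl⟩⟩
    rw [← Nat.card_congr ι, Nat.card_sum, Nat.card_congr (QuotientGroup.preimageMkEquivSubgroupProdSet H S),
      Nat.card_prod, Nat.card_zpowers, hzord, Nat.card_unique (α := Unit)] at hcount
    set t := Nat.card S
    -- the count is impossible modulo `q ^ k + 1`
    have hdvd : ((q ^ k + 1 : ℕ) : ℤ) ∣ 2 * ((q : ℤ) - 1) := by
      have h' : (q : ℤ) * (((q : ℤ) ^ k + 1) * t + 1) = (q : ℤ) ^ (k + 1) + ((q : ℤ) ^ k - 1) * (q : ℤ) ^ k := by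
        have := congrArg (Nat.cast : ℕ → ℤ) hcount
        push_cast [Nat.cast_sub hqk.le] at this
        exact this
      refine ⟨(q : ℤ) ^ k - 2 + q - q * t, ?_⟩
      push_cast
      linear_combination h'
    have h2 : (q ^ k + 1) ∣ 2 * (q - 1) := by
      rw [← Int.natCast_dvd_natCast]
      push_cast [Nat.cast_sub hq1.le]
      exact_mod_cast hdvd
    have hodd : Nat.Coprime (q ^ k + 1) 2 := by
      rw [Nat.coprime_two_right]
      exact ((even_card (F := F)).pow_of_ne_zero (by omega)).add_one
    have h3 := Nat.le_of_dvd (by omega) (hodd.dvd_of_dvd_mul_left h2)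
    have : q ≤ q ^ k := Nat.le_self_pow (by omega) q
    omega
  exact hiso.congr (equivalent_minus hab j Q hnd hK hL)

end CfsgLib.OrthTwo
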