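import Cfsg.Agent.OrthTwo.Classify

/-!
# Isometries of two-power order

Starting from a reflection of a plane, two Eichler extensions give isometries of orders four and
eight; direct sums with reflections give the elements whose orders double in the affine extension.
-/

set_option autoImplicit false

namespace CfsgLib.OrthTwo

open Module QuadraticMap

theorem add_self_zero {F V : Type*} [Field F] [CharP F 2] [AddCommGroup V] [Module F V] (x : V) :
    x + x = 0 := by
  rw [← two_smul F x, CharTwo.two_eq_zero, zero_smul]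

variable {F V : Type*} [Field F] [CharP F 2] [AddCommGroup V] [Module F V]

omit [CharP F 2] in
theorem coe_pow_equiv (g : V ≃ₗ[F] V) (n : ℕ) :
    (g ^ n).toLinearMap = (g.toLinearMap : Module.End F V) ^ n := by
  induction n with
  | zero => rfl
  | succ n ih => rw [pow_succ, pow_succ, ← ih]; rfl

theorem sub1_pow_two_pow (g : V ≃ₗ[F] V) (j : ℕ) :
    (sub1 g : Module.End F V) ^ (2 ^ j) = (g ^ (2 ^ j)).toLinearMap - 1 := by
  induction j with
  | zero => simp only [pow_zero, pow_one]; rfl
  | succ j ih =>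
    rw [pow_succ, pow_mul, ih, pow_mul g, coe_pow_equiv (g ^ 2 ^ j) 2]
    generalize ((g ^ 2 ^ j).toLinearMap : Module.End F V) = a
    have haa : a + a = 0 := LinearMap.ext fun x => add_self_zero (F := F) (a x)
    have h11 : (1 : Module.End F V) + 1 = 0 := LinearMap.ext fun x => add_self_zero (F := F) x
    calc (a - 1) ^ 2 = a ^ 2 - 1 - (a + a) + (1 + 1) := by rw [pow_two, pow_two]; noncomm_ring
      _ = a ^ 2 - 1 := by rw [haa, h11, sub_zero, add_zero]

theorem pow_two_pow_eq_one_iff (g : V ≃ₗ[F] V) (j : ℕ) :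
    g ^ (2 ^ j) = 1 ↔ (sub1 g : Module.End F V) ^ (2 ^ j) = 0 := by
  rw [sub1_pow_two_pow, sub_eq_zero]
  exact ⟨fun h => by rw [h]; rfl, fun h => LinearEquiv.toLinearMap_injective h⟩

theorem orderOf_two_pow {g : V ≃ₗ[F] V} {j : ℕ} (h : (sub1 g : Module.End F V) ^ (2 ^ (j + 1)) = 0)
    {v : V} (hv : ((sub1 g : Module.End F V) ^ (2 ^ j)) v ≠ 0) : orderOf g = 2 ^ (j + 1) := by
  haveI : Fact (Nat.Prime 2) := ⟨Nat.prime_two⟩
  refine orderOf_eq_prime_pow (fun h1 => hv ?_) ((pow_two_pow_eq_one_iff g _).2 h)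
  rw [(pow_two_pow_eq_one_iff g j).1 h1, LinearMap.zero_apply]

theorem sum_four (g : V ≃ₗ[F] V) (v : V) :
    ∑ i ∈ Finset.range 4, (g ^ i) v = ((sub1 g : Module.End F V) ^ 3) v := by
  have hs : ∀ x y : V, x - y = x + y := fun x y =>
    sub_eq_of_eq_add (by rw [add_assoc, add_self_zero (F := F) y, add_zero])
  have h2 := sub1_pow_two_pow g 1
  rw [pow_one] at h2
  rw [pow_succ (sub1 g : Module.End F V), Module.End.mul_apply, h2]
  simp only [LinearMap.sub_apply, Module.End.one_apply, sub1_apply, map_sub, hs]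
  simp only [Finset.sum_range_succ, Finset.sum_range_zero, zero_add, pow_succ, pow_zero, one_mul,
    LinearEquiv.mul_apply, LinearEquiv.coe_coe, LinearEquiv.coe_one, id_eq, map_add]
  abel

section Eichler

variable {W : Type*} [AddCommGroup W] [Module F W] (Q : QuadraticForm F W)

/-- The Eichler extension of an isometry `g` by a vector `u`. -/
noncomputable def eichler (g : W ≃ₗ[F] W) (u : W) :
    (((Fin 1 → F) × (Fin 1 → F)) × W) ≃ₗ[F] (((Fin 1 → F) × (Fin 1 → F)) × W) where
  toFun t := ((fun _ => t.1.1 0 + polar Q (g t.2) u + Q u * t.1.2 0, t.1.2), g t.2 + t.1.2 0 • u)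
  map_add' s t := by
    refine Prod.ext (Prod.ext (funext fun _ => ?_) rfl) ?_
    · simp only [Prod.fst_add, Prod.snd_add, Pi.add_apply, map_add, polar_add_left]
      ring
    · simp only [Prod.fst_add, Prod.snd_add, Pi.add_apply, map_add, add_smul]
      abel
  map_smul' c t := by
    refine Prod.ext (Prod.ext (funext fun _ => ?_) rfl) ?_
    · simp only [Prod.smul_fst, Prod.smul_snd, Pi.smul_apply, map_smul, polar_smul_left, smul_eq_mul,
        RingHom.id_apply]
      ring
    · simp [mul_smul]
  invFun t := ((fun _ => t.1.1 0 + polar Q (t.2 + t.1.2 0 • u) u + Q u * t.1.2 0, t.1.2),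
    g.symm (t.2 + t.1.2 0 • u))
  left_inv t := by
    have h : g t.2 + t.1.2 0 • u + t.1.2 0 • u = g t.2 := by
      rw [add_assoc, add_self_zero (F := F), add_zero]
    refine Prod.ext (Prod.ext (funext fun l => ?_) rfl) ?_
    · rw [Subsingleton.elim l 0]
      simp only [h]
      linear_combination (polar Q (g t.2) u + Q u * t.1.2 0) * (CharTwo.two_eq_zero (R := F))
    · simp only [h, LinearEquiv.symm_apply_apply]
  right_inv t := by
    refine Prod.ext (Prod.ext (funext fun l => ?_) rfl) ?_
    · rw [Subsingleton.elim l 0]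
      simp only [LinearEquiv.apply_symm_apply]
      linear_combination (polar Q (t.2 + t.1.2 0 • u) u + Q u * t.1.2 0) * (CharTwo.two_eq_zero (R := F))
    · simp only [LinearEquiv.apply_symm_apply]
      rw [add_assoc, add_self_zero (F := F), add_zero]

theorem eichler_apply (g : W ≃ₗ[F] W) (u : W) (t : ((Fin 1 → F) × (Fin 1 → F)) × W) :
    eichler Q g u t =
      ((fun _ => t.1.1 0 + polar Q (g t.2) u + Q u * t.1.2 0, t.1.2), g t.2 + t.1.2 0 • u) := rfl

theorem eichler_mem {g : W ≃ₗ[F] W} (hg : g ∈ isoGroup Q) (u : W) :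
    eichler Q g u ∈ isoGroup ((hyp F 1).prod Q) := by
  intro t
  rw [eichler_apply]
  simp only [QuadraticMap.prod_apply, hyp_apply, Fin.sum_univ_one, QuadraticMap.map_add (⇑Q),
    QuadraticMap.map_smul, polar_smul_right, smul_eq_mul, hg t.2]
  linear_combination (polar Q (g t.2) u * t.1.2 0 + Q u * t.1.2 0 * t.1.2 0) * (CharTwo.two_eq_zero (R := F))

theorem sub1_eichler (g : W ≃ₗ[F] W) (u : W) (t : ((Fin 1 → F) × (Fin 1 → F)) × W) :
    sub1 (eichler Q g u) t =
      ((fun _ => polar Q (g t.2) u + Q u * t.1.2 0, 0), sub1 g t.2 + t.1.2 0 • u) := by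
  rw [sub1_apply, eichler_apply, sub1_apply]
  refine Prod.ext (Prod.ext (funext fun l => ?_) (sub_self _)) ?_
  · rw [Subsingleton.elim l 0]
    simp only [Prod.fst_sub, Pi.sub_apply]
    ring
  · simp only [Prod.snd_sub]
    abel

theorem sub1_eichler_of_zero (g : W ≃ₗ[F] W) (u : W) (a : Fin 1 → F) (v : W) :
    sub1 (eichler Q g u) ((a, 0), v) = ((fun _ => polar Q (g v) u, 0), sub1 g v) := by
  rw [sub1_eichler]
  simp

theorem sub1_eichler_pow (g : W ≃ₗ[F] W) (u : W) (a : Fin 1 → F) (v : W) (m : ℕ) :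
    ((sub1 (eichler Q g u) : Module.End F _) ^ (m + 1)) ((a, 0), v) =
      ((fun _ => polar Q (g (((sub1 g : Module.End F W) ^ m) v)) u, 0),
        ((sub1 g : Module.End F W) ^ (m + 1)) v) := by
  induction m generalizing a v with
  | zero => rw [pow_one, pow_one, pow_zero, sub1_eichler_of_zero]; rfl
  | succ m ih =>
    rw [pow_succ, Module.End.mul_apply, sub1_eichler_of_zero, ih]
    rw [pow_succ (sub1 g : Module.End F W) m, pow_succ (sub1 g : Module.End F W) (m + 1)]
    rfl

theorem eichler_nilpotent {g : W ≃ₗ[F] W} (u : W) {n : ℕ}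
    (h : (sub1 g : Module.End F W) ^ n = 0) :
    (sub1 (eichler Q g u) : Module.End F _) ^ (n + 2) = 0 := by
  refine LinearMap.ext fun t => ?_
  rw [pow_succ, Module.End.mul_apply, sub1_eichler, sub1_eichler_pow, h, pow_succ, h]
  simp
  rfl

/-- The vector `f` of the hyperbolic plane. -/
def fvec (F W : Type*) [Zero F] [One F] [Zero W] : ((Fin 1 → F) × (Fin 1 → F)) × W :=
  ((0, fun _ => 1), 0)

theorem eichler_pow_fvec (g : W ≃ₗ[F] W) (u : W) (m : ℕ) :
    ((sub1 (eichler Q g u) : Module.End F _) ^ (m + 2)) (fvec F W) =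
      ((fun _ => polar Q (g (((sub1 g : Module.End F W) ^ m) u)) u, 0),
        ((sub1 g : Module.End F W) ^ (m + 1)) u) := by
  rw [pow_succ, Module.End.mul_apply, sub1_eichler, sub1_eichler_pow]
  simp [fvec]

end Eichler

section Plane

variable {P : Type*} [AddCommGroup P] [Module F P] (R : QuadraticForm F P)

theorem sub1_refl_self {p : P} (hp : R p ≠ 0) : sub1 (refl R p hp) p = 0 := by
  rw [sub1_apply, refl_apply, polar_self, two_nsmul, CharTwo.add_self_eq_zero, zero_div, zero_smul,
    sub_zero, sub_self]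

theorem sub1_refl_sq {p : P} (hp : R p ≠ 0) :
    (sub1 (refl R p hp) : Module.End F P) ^ 2 = 0 := by
  have h := (pow_two_pow_eq_one_iff (refl R p hp) 1).1 (by rw [pow_one, pow_two, refl_mul_self])
  rwa [pow_one] at h

variable [FiniteDimensional F P] (hnd : (polarBilin R).Nondegenerate) {p w : P} (hp : R p ≠ 0)
include hnd hp

theorem orderOf_refl : orderOf (refl R p hp) = 2 := by
  haveI : Fact (Nat.Prime 2) := ⟨Nat.prime_two⟩
  refine orderOf_eq_prime (by rw [pow_two, refl_mul_self]) fun h => ?_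
  have := rk_refl R hnd p hp
  rw [h, rk_one] at this
  exact zero_ne_one this

/-- An isometry of order two. -/
theorem isoOrder_two : IsoOrder R 2 := ⟨refl R p hp, refl_mem R p hp, orderOf_refl R hnd hp⟩

variable (hw : polar R w p ≠ 0)
include hw

omit hnd [FiniteDimensional F P] in
theorem eichler_four_pow :
    ((sub1 (eichler R (refl R p hp) w) : Module.End F _) ^ 3) (fvec F P) ≠ 0 := by
  rw [eichler_pow_fvec R _ w 1]
  intro h
  have h1 := congrFun (congrArg (fun t => t.1.1) h) 0
  simp only [pow_one, sub1_apply, refl_apply, sub_sub_cancel_left, Prod.fst_zero, Pi.zero_apply, map_neg,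
    map_smul, polar_smul_left, polar_neg_left, polar_self, two_nsmul, CharTwo.add_self_eq_zero,
    zero_div, zero_smul, sub_zero, smul_eq_mul, polar_comm (⇑R) p w] at h1
  rw [neg_eq_zero, mul_eq_zero] at h1
  exact h1.elim (fun h => hw ((div_eq_zero_iff.1 h).resolve_right hp)) hw

omit hnd [FiniteDimensional F P] in
theorem orderOf_eichler_four : orderOf (eichler R (refl R p hp) w) = 4 := by
  refine orderOf_two_pow (j := 1) (eichler_nilpotent R w (sub1_refl_sq R hp)) (v := fvec F P) fun h => ?_
  apply eichler_four_pow R hp hw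
  rw [pow_succ' (sub1 _ : Module.End F _) 2, Module.End.mul_apply]
  rw [pow_one] at h
  rw [h, map_zero]

/-- An isometry of order four. -/
theorem isoOrder_four : IsoOrder ((hyp F 1).prod R) 4 :=
  ⟨_, eichler_mem R (refl_mem R p hp) w, orderOf_eichler_four R hp hw⟩

omit hnd [FiniteDimensional F P] in
/-- An isometry of order eight. -/
theorem isoOrder_eight : IsoOrder ((hyp F 1).prod ((hyp F 1).prod R)) 8 := by
  set G := eichler R (refl R p hp) w with hG
  refine ⟨eichler ((hyp F 1).prod R) G (fvec F P),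
    eichler_mem _ (eichler_mem R (refl_mem R p hp) w) _, ?_⟩
  have h6 : (sub1 (eichler ((hyp F 1).prod R) G (fvec F P)) : Module.End F _) ^ 6 = 0 :=
    eichler_nilpotent _ _ (eichler_nilpotent R w (sub1_refl_sq R hp))
  refine orderOf_two_pow (j := 2) (pow_eq_zero_of_le (by norm_num) h6)
    (v := fvec F (((Fin 1 → F) × (Fin 1 → F)) × P)) fun h => ?_
  rw [show 2 ^ 2 = 2 + 2 from rfl, eichler_pow_fvec] at h
  exact eichler_four_pow R hp hw (congrArg Prod.snd h)

/-- An even isometry of order two which doubles in the affine extension. -/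
theorem liftOrder_two : LiftOrder ((hyp F 1).prod R) 2 := by
  have h1 : hyp F 1 ((fun _ => 1), fun _ => 1) ≠ 0 := by simp [hyp_apply]
  refine ⟨prodHom (refl (hyp F 1) _ h1, refl R p hp), prodHom_mem (refl_mem _ _ _) (refl_mem _ _ _),
    by rw [rk_prodHom, rk_refl _ (hyp_nondeg 1), rk_refl _ hnd]; exact even_two,
    by rw [orderOf_prodHom, orderOf_refl _ (hyp_nondeg 1), orderOf_refl _ hnd]; rfl,
    (0, w), fun h => ?_⟩
  have h2 := congrArg Prod.snd h
  simp only [Finset.sum_range_succ, Finset.sum_range_zero, zero_add, pow_zero, pow_one, Prod.snd_add,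
    Prod.snd_zero] at h2
  change w + refl R p hp w = 0 at h2
  rw [refl_apply, add_sub, add_self_zero (F := F), zero_sub, neg_eq_zero, smul_eq_zero] at h2
  exact h2.elim (fun h => hw ((div_eq_zero_iff.1 h).resolve_right hp))
    fun h => hp (by rw [h, QuadraticMap.map_zero])

theorem rk_eichler_four (h2 : finrank F P = 2) : rk (eichler R (refl R p hp) w) = 3 := by
  set G := eichler R (refl R p hp) w with hG
  let π : ((Fin 1 → F) × (Fin 1 → F)) × P →ₗ[F] (Fin 1 → F) :=
    (LinearMap.snd F _ _).comp (LinearMap.fst F _ _)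
  have hker : finrank F (LinearMap.ker π) = 3 := by
    have h := π.finrank_range_add_finrank_ker
    rw [LinearMap.range_eq_top.2 fun y => ⟨((0, y), 0), rfl⟩, finrank_top] at h
    simp [h2] at h
    omega
  have hle : LinearMap.range (sub1 G) ≤ LinearMap.ker π := by
    rintro _ ⟨t, rfl⟩
    rw [LinearMap.mem_ker, hG, sub1_eichler]
    rfl
  refine le_antisymm (hker ▸ Submodule.finrank_mono hle) ?_
  refine hker ▸ Submodule.finrank_mono ?_
  set U := LinearMap.range (sub1 G)
  have hN : ∀ m : ℕ, ((sub1 G : Module.End F _) ^ (m + 1)) (fvec F P) ∈ U := fun m => by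
    rw [pow_succ', Module.End.mul_apply]
    exact ⟨_, rfl⟩
  have he : ∀ a : Fin 1 → F, ((a, 0), (0 : P)) ∈ U := by
    have h3 := hN 2
    have h0 := eichler_four_pow R hp hw
    simp only [hG, show 2 + 1 = 1 + 2 from rfl] at h3
    rw [eichler_pow_fvec R _ w 1, sub1_refl_sq R hp, LinearMap.zero_apply] at h0
    rw [eichler_pow_fvec R _ w 1, sub1_refl_sq R hp, LinearMap.zero_apply] at h3
    intro a
    set c := polar R (refl R p hp (((sub1 (refl R p hp) : Module.End F P) ^ 1) w)) w
    have hc : c ≠ 0 := fun hc => h0 (by rw [hc]; rfl)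
    have := U.smul_mem (a 0 / c) h3
    convert this using 1
    refine Prod.ext (Prod.ext (funext fun l => ?_) ?_) ?_
    · simp [Subsingleton.elim l 0, hc]
    · simp
    · simp
  have hp' : (((0, 0), p) : ((Fin 1 → F) × (Fin 1 → F)) × P) ∈ U := by
    have h2' := hN 1
    rw [hG, eichler_pow_fvec R _ w 0, pow_one] at h2'
    have hc : polar R w p / R p ≠ 0 := div_ne_zero hw hp
    have hN1 : sub1 (refl R p hp) w = -((polar R w p / R p) • p) := by
      rw [sub1_apply, refl_apply, sub_sub_cancel_left]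
    have h4 := U.smul_mem (-(polar R w p / R p)⁻¹)
      (U.sub_mem h2' (he fun _ => polar R (refl R p hp (((sub1 (refl R p hp) : Module.End F P) ^ 0) w)) w))
    rw [Prod.mk_sub_mk, Prod.mk_sub_mk, sub_self, sub_zero, sub_zero, Prod.smul_mk, Prod.smul_mk, smul_zero,
      hN1, neg_smul, smul_neg, neg_neg, inv_smul_smul₀ hc] at h4
    exact h4
  have hw' : (((0, 0), w) : ((Fin 1 → F) × (Fin 1 → F)) × P) ∈ U := by
    have h1' := U.sub_mem (hN 0) (he fun _ => R w)
    rw [pow_one, hG, sub1_eichler] at h1'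
    simpa [fvec, ← Prod.mk_zero_zero] using h1'
  rintro ⟨⟨a, y⟩, z⟩ hy
  have hy0 : y = 0 := hy
  subst hy0
  have hli : LinearIndependent F ![p, w] := by
    refine LinearIndependent.pair_iff.2 fun s t hst => ?_
    have ht : t = 0 := by
      have := congrArg (fun x => polar R x p) hst
      simp only [polar_add_left, polar_smul_left, polar_self, two_nsmul, CharTwo.add_self_eq_zero,
        smul_eq_mul, mul_zero, zero_add, polar_zero_left, mul_eq_zero, hw, or_false] at this
      exact this
    refine ⟨?_, ht⟩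
    rw [ht, zero_smul, add_zero, smul_eq_zero] at hst
    exact hst.resolve_right fun h => hp (by rw [h, QuadraticMap.map_zero])
  have hspan := hli.span_eq_top_of_card_eq_finrank (by simp [h2])
  have hz : z ∈ Submodule.span F (Set.range ![p, w]) := hspan ▸ Submodule.mem_top
  rw [Matrix.range_cons, Matrix.range_cons, Matrix.range_empty, Set.union_empty,
    Set.singleton_union, Submodule.mem_span_pair] at hz
  obtain ⟨s, t, rfl⟩ := hz
  have := U.add_mem (he a) (U.add_mem (U.smul_mem s hp') (U.smul_mem t hw'))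
  convert this using 1
  ext <;> simp

/-- An even isometry of order four which doubles in the affine extension. -/
theorem liftOrder_four (h2 : finrank F P = 2) :
    LiftOrder ((hyp F 1).prod ((hyp F 1).prod R)) 4 := by
  have h1 : hyp F 1 ((fun _ => 1), fun _ => 1) ≠ 0 := by simp [hyp_apply]
  set G := eichler R (refl R p hp) w
  refine ⟨prodHom (refl (hyp F 1) _ h1, G),
    prodHom_mem (refl_mem _ _ _) (eichler_mem R (refl_mem R p hp) w),
    by rw [rk_prodHom, rk_refl _ (hyp_nondeg 1), rk_eichler_four R hnd hp hw h2]; exact ⟨2, rfl⟩,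
    by rw [orderOf_prodHom, orderOf_refl _ (hyp_nondeg 1), orderOf_eichler_four R hp hw]; rfl,
    (0, fvec F P), fun h => eichler_four_pow R hp hw ?_⟩
  have h3 := congrArg Prod.snd h
  rw [Prod.snd_sum, Prod.snd_zero] at h3
  have h4 : ∀ i, ((prodHom (refl (hyp F 1) _ h1, G) ^ i) (0, fvec F P)).2 = (G ^ i) (fvec F P) :=
    fun i => by rw [← map_pow, Prod.pow_mk]; rfl
  simp only [h4, sum_four] at h3
  exact h3

end Plane

end CfsgLib.OrthTwo
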