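import Cfsg.Agent.OrthTwo.Tori
import Cfsg.Agent.OrthTwo.Unipotents

/-!
# Isometries realising the twelve maximal orders

Each maximal order of `SpecList` is the order of an isometry of the eight-dimensional minus form.
The even ones are twice the order of an isometry which doubles in the affine extension, and the odd
ones belong to even isometries.
-/

set_option autoImplicit false

namespace CfsgLib.OrthTwo

open Module QuadraticMap

variable {F : Type*} [Field F] [Fintype F] [CharP F 2] {a b : F}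

local notation "H" => hyp F
local notation "q" => Fintype.card F

theorem coprime_of_odd {m n : ℕ} (hm : Odd m) (h : (n : ℤ) ∣ (m : ℤ) - 2 ∨ (n : ℤ) ∣ (m : ℤ) + 2) :
    m.Coprime n := by
  have h2 : (Nat.gcd m n : ℤ) ∣ 2 := by
    have h1 : (Nat.gcd m n : ℤ) ∣ (m : ℤ) := Int.natCast_dvd_natCast.2 (Nat.gcd_dvd_left m n)
    have h3 : (Nat.gcd m n : ℤ) ∣ (n : ℤ) := Int.natCast_dvd_natCast.2 (Nat.gcd_dvd_right m n)
    rcases h with h | h
    · have := dvd_sub h1 (h3.trans h)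
      rwa [sub_sub_cancel] at this
    · have := dvd_sub (h3.trans h) h1
      rwa [add_sub_cancel_left] at this
  rcases (Nat.dvd_prime Nat.prime_two).1 (Int.natCast_dvd_natCast.1 h2) with h4 | h4
  · exact h4
  · exact absurd (h4 ▸ Nat.gcd_dvd_left m n) (by rw [← even_iff_two_dvd]; exact Nat.not_even_iff_odd.2 hm)

theorem odd_pow_succ_add_one (k : ℕ) : Odd (q ^ (k + 1) + 1) :=
  ((even_card (F := F)).pow_of_ne_zero (by omega)).add_one

theorem odd_pow_succ_sub_one (k : ℕ) : Odd (q ^ (k + 1) - 1) :=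
  Nat.Even.sub_odd (Nat.one_le_pow _ _ Fintype.card_pos)
    ((even_card (F := F)).pow_of_ne_zero (by omega)) odd_one

section Decompositions

variable (a b)

omit [Fintype F] in
/-- `H (i + j) ⊥ E ≅ H i ⊥ (H j ⊥ E)`. -/
theorem split_form (i j : ℕ) :
    ((H (i + j)).prod (bin a b)).Equivalent ((H i).prod ((H j).prod (bin a b))) :=
  ((hyp_add i j).prod (Equivalent.refl _)).trans (prod_assoc _ _ _)

omit [Fintype F] in
/-- `H 1 ⊥ (H 1 ⊥ H 1) ≅ H 3`. -/
theorem three_planes : ((H 1).prod ((H 1).prod (H 1))).Equivalent (H 3) :=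
  ((Equivalent.refl (H 1)).prod (hyp_add (F := F) 1 1).symm).trans (hyp_add (F := F) 1 2).symm

omit [Fintype F] in
/-- `(H 1 ⊥ E) ⊥ H 2 ≅ H 3 ⊥ E`. -/
theorem middle_form : (((H 1).prod (bin a b)).prod (H 2)).Equivalent ((H 3).prod (bin a b)) :=
  (prod_comm _ _).trans (split_form a b 2 1).symm

omit [Fintype F] in
/-- `(H 2 ⊥ E) ⊥ H 1 ≅ H 3 ⊥ E`. -/
theorem top_form : (((H 2).prod (bin a b)).prod (H 1)).Equivalent ((H 3).prod (bin a b)) :=
  (prod_comm _ _).trans (split_form a b 1 2).symm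

omit [Fintype F] in
/-- `((H 1 ⊥ E) ⊥ H 1) ⊥ H 1 ≅ H 3 ⊥ E`. -/
theorem plus_form :
    ((((H 1).prod (bin a b)).prod (H 1)).prod (H 1)).Equivalent ((H 3).prod (bin a b)) :=
  ((prod_assoc _ _ _).trans ((Equivalent.refl _).prod (hyp_add (F := F) 1 1).symm)).trans
    (middle_form a b)

omit [Fintype F] in
/-- `((H 1 ⊥ E) ⊥ E) ⊥ E ≅ H 3 ⊥ E`. -/
theorem minus_form (ha : a ≠ 0) :
    ((((H 1).prod (bin a b)).prod (bin a b)).prod (bin a b)).Equivalent ((H 3).prod (bin a b)) :=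
  ((prod_assoc _ _ _).trans ((Equivalent.refl _).prod (bin_prod_bin ha b))).trans (middle_form a b)

omit [Fintype F] in
/-- `H 0 ⊥ E ≅ E`. -/
theorem zero_form : ((H 0).prod (bin a b)).Equivalent (bin a b) :=
  ⟨⟨{ toFun := fun v => v.2
      map_add' := fun _ _ => rfl
      map_smul' := fun _ _ => rfl
      invFun := fun z => (0, z)
      left_inv := fun _ => Prod.ext (Subsingleton.elim _ _) rfl
      right_inv := fun _ => rfl }, fun v => by simp [QuadraticMap.prod_apply, hyp_apply]⟩⟩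

end Decompositions

variable (hab : Aniso a b)
include hab

/-- A combined lifting element, moved to the standard form. -/
theorem lift_prod {V W : Type*} [AddCommGroup V] [Module F V] [FiniteDimensional F V]
    [AddCommGroup W] [Module F W] [FiniteDimensional F W]
    {Q : QuadraticForm F V} {Q' : QuadraticForm F W}
    (he : (Q.prod Q').Equivalent ((H 3).prod (bin a b)))
    (hQ : (polarBilin Q).Nondegenerate) (hQ' : (polarBilin Q').Nondegenerate) {M e : ℕ}
    (h : IsoOrder Q M) (hM : Odd M) (h' : LiftOrder Q' (2 ^ e)) :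
    LiftOrder ((H 3).prod (bin a b)) (2 ^ e * M) :=
  (LiftOrder.prod (prod_nondeg hQ hQ') (noLagrangian_congr he.symm (noLagrangian_minus hab hab.ne_zero 3))
    h hM h').congr he

theorem isoOrder_max {N : ℕ} (h : SpecList q N) :
    ∃ M, N ∣ M ∧ M ≠ 0 ∧ IsoOrder ((H 3).prod (bin a b)) M := by
  have hq : 1 < q := Fintype.one_lt_card
  have ha := hab.ne_zero
  have hq2 : 1 < q ^ 2 := Nat.one_lt_pow (by norm_num) hq
  have hq3 : 1 < q ^ 3 := Nat.one_lt_pow (by norm_num) hq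
  have hq4 : 1 < q ^ 4 := Nat.one_lt_pow (by norm_num) hq
  have hP : H 1 ((fun _ => 1), fun _ => 1) ≠ 0 := by simp [hyp_apply]
  have hPw : polar (H 1) (0, fun _ => 1) ((fun _ => 1), fun _ => 1) ≠ 0 := by simp [hyp_polar]
  have hE : bin a b (1, 0) ≠ 0 := by simp [bin_apply]
  have hEw : polar (bin a b) (0, 1) (1, 0) ≠ 0 := by simp [bin_polar, ha]
  have h1m : IsoOrder (H 1) (q - 1) := by simpa using isoOrder_hyp (F := F) (le_refl 1)
  have h1p : IsoOrder (bin a b) (q + 1) := by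
    simpa using (isoOrder_minus hab 0).congr (zero_form a b)
  have h2m := isoOrder_hyp (F := F) (k := 2) (by norm_num)
  have h3m := isoOrder_hyp (F := F) (k := 3) (by norm_num)
  have h2p := isoOrder_minus hab 1
  have h3p := isoOrder_minus hab 2
  have h4p := isoOrder_minus hab 3
  have o1m : Odd (q - 1) := by simpa using odd_pow_succ_sub_one (F := F) 0
  have o1p : Odd (q + 1) := by simpa using odd_pow_succ_add_one (F := F) 0
  have hc8 : ∀ (e n : ℕ), Odd n → n.Coprime (2 ^ e) := fun e n hn =>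
    (Nat.coprime_two_right.2 hn).pow_right e
  have c21m : (q ^ 2 + 1).Coprime (q - 1) := coprime_of_odd (odd_pow_succ_add_one 1)
    (Or.inl ⟨(q : ℤ) + 1, by push_cast [Nat.cast_sub hq.le]; ring⟩)
  have c21p : (q ^ 2 + 1).Coprime (q + 1) := coprime_of_odd (odd_pow_succ_add_one 1)
    (Or.inl ⟨(q : ℤ) - 1, by push_cast; ring⟩)
  rcases h with h | h | h | h | h | h | h | h | h | h | h | h
  · exact ⟨_, h, by omega, by
      rw [mul_comm]
      exact (h1m.prod_mul ((isoOrder_eight (bin a b) hE hEw).congr (split_form a b 1 1).symm)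
        (hc8 3 _ o1m)).congr (split_form a b 1 2).symm⟩
  · exact ⟨_, h, by omega, by
      rw [mul_comm]
      exact (h1p.prod_mul ((isoOrder_eight (H 1) hP hPw).congr three_planes) (hc8 3 _ o1p)).congr
        (prod_comm _ _)⟩
  · exact ⟨_, h, by omega, by
      rw [mul_comm]
      exact (h2m.prod_mul (isoOrder_four (bin a b) (bin_nondeg ha b) hE hEw)
        (hc8 2 _ (odd_pow_succ_sub_one 1))).congr (split_form a b 2 1).symm⟩
  · exact ⟨_, h, by omega, by
      rw [mul_comm]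
      exact (h2p.prod_mul ((isoOrder_four (H 1) (hyp_nondeg 1) hP hPw).congr (hyp_add (F := F) 1 1).symm)
        (hc8 2 _ (odd_pow_succ_add_one 1))).congr (middle_form a b)⟩
  · exact ⟨_, h, by omega, by
      rw [mul_comm]
      exact h3m.prod_mul (isoOrder_two (bin a b) (bin_nondeg ha b) hE)
        (hc8 1 _ (odd_pow_succ_sub_one 2))⟩
  · exact ⟨_, h, by omega, by
      rw [mul_comm]
      exact (h3p.prod_mul (isoOrder_two (H 1) (hyp_nondeg 1) hP)
        (hc8 1 _ (odd_pow_succ_add_one 2))).congr (top_form a b)⟩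
  · exact ⟨_, h, mul_ne_zero two_ne_zero (mul_ne_zero (by omega) (by omega)), by
      rw [mul_comm 2]
      exact ((h2p.prod_mul h1m c21m).prod_mul (isoOrder_two (H 1) (hyp_nondeg 1) hP)
        (hc8 1 _ ((odd_pow_succ_add_one 1).mul o1m))).congr (plus_form a b)⟩
  · exact ⟨_, h, mul_ne_zero two_ne_zero (mul_ne_zero (by omega) (by omega)), by
      rw [mul_comm 2]
      exact ((h2p.prod_mul h1p c21p).prod_mul (isoOrder_two (bin a b) (bin_nondeg ha b) hE)
        (hc8 1 _ ((odd_pow_succ_add_one 1).mul o1p))).congr (minus_form a b ha)⟩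
  · exact ⟨_, h, by omega, h4p⟩
  · refine ⟨_, h, by omega, ?_⟩
    have hmul : q ^ 4 - 1 = (q ^ 2 + 1) * (q ^ 2 - 1) := by
      rw [← Nat.sq_sub_sq, one_pow, ← pow_mul]
    rw [hmul]
    exact (h2p.prod_mul h2m (coprime_of_odd (odd_pow_succ_add_one 1)
      (Or.inl ⟨1, by push_cast [Nat.cast_sub hq2.le]; ring⟩))).congr (middle_form a b)
  · exact ⟨_, h, mul_ne_zero (by omega) (by omega),
      (h3p.prod_mul h1m (coprime_of_odd (odd_pow_succ_add_one 2)
        (Or.inl ⟨(q : ℤ) ^ 2 + q + 1, by push_cast [Nat.cast_sub hq.le]; ring⟩))).congr (top_form a b)⟩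
  · exact ⟨_, h, mul_ne_zero (by omega) (by omega),
      h3m.prod_mul h1p (coprime_of_odd (odd_pow_succ_sub_one 2)
        (Or.inr ⟨(q : ℤ) ^ 2 - q + 1, by push_cast [Nat.cast_sub hq3.le]; ring⟩))⟩

theorem affine_max {N : ℕ} (h : SpecList q N) :
    ∃ M, N ∣ M ∧ M ≠ 0 ∧ ((IsoOrder ((H 3).prod (bin a b)) M ∧ Odd M) ∨
      ∃ L, M = 2 * L ∧ LiftOrder ((H 3).prod (bin a b)) L) := by
  have hq : 1 < q := Fintype.one_lt_card
  have ha := hab.ne_zero
  have hq2 : 1 < q ^ 2 := Nat.one_lt_pow (by norm_num) hq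
  have hq3 : 1 < q ^ 3 := Nat.one_lt_pow (by norm_num) hq
  have hq4 : 1 < q ^ 4 := Nat.one_lt_pow (by norm_num) hq
  have hP : H 1 ((fun _ => 1), fun _ => 1) ≠ 0 := by simp [hyp_apply]
  have hPw : polar (H 1) (0, fun _ => 1) ((fun _ => 1), fun _ => 1) ≠ 0 := by simp [hyp_polar]
  have hE : bin a b (1, 0) ≠ 0 := by simp [bin_apply]
  have hEw : polar (bin a b) (0, 1) (1, 0) ≠ 0 := by simp [bin_polar, ha]
  have hnE := bin_nondeg ha b
  have hnH : ∀ k, (polarBilin (H k)).Nondegenerate := hyp_nondeg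
  have hnHE : ∀ k, (polarBilin ((H k).prod (bin a b))).Nondegenerate := fun k =>
    prod_nondeg (hnH k) hnE
  have h1m : IsoOrder (H 1) (q - 1) := by simpa using isoOrder_hyp (F := F) (le_refl 1)
  have h1p : IsoOrder (bin a b) (q + 1) := by
    simpa using (isoOrder_minus hab 0).congr (zero_form a b)
  have h2m := isoOrder_hyp (F := F) (k := 2) (by norm_num)
  have h3m := isoOrder_hyp (F := F) (k := 3) (by norm_num)
  have h2p := isoOrder_minus hab 1
  have h3p := isoOrder_minus hab 2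
  have h4p := isoOrder_minus hab 3
  have o1m : Odd (q - 1) := by simpa using odd_pow_succ_sub_one (F := F) 0
  have o1p : Odd (q + 1) := by simpa using odd_pow_succ_add_one (F := F) 0
  have c21m : (q ^ 2 + 1).Coprime (q - 1) := coprime_of_odd (odd_pow_succ_add_one 1)
    (Or.inl ⟨(q : ℤ) + 1, by push_cast [Nat.cast_sub hq.le]; ring⟩)
  have c21p : (q ^ 2 + 1).Coprime (q + 1) := coprime_of_odd (odd_pow_succ_add_one 1)
    (Or.inl ⟨(q : ℤ) - 1, by push_cast; ring⟩)
  have hv1 : ((fun _ => 1), fun _ => 1) ≠ (0 : (Fin 1 → F) × (Fin 1 → F)) := fun h =>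
    hP (by rw [h, QuadraticMap.map_zero])
  have hv2 : ((1, 0) : F × F) ≠ 0 := fun h => hE (by rw [h, QuadraticMap.map_zero])
  rcases h with h | h | h | h | h | h | h | h | h | h | h | h
  · exact ⟨_, h, by omega, Or.inr ⟨2 ^ 2 * (q - 1), by ring,
      lift_prod hab (split_form a b 1 2).symm (hnH 1) (hnHE 2) h1m o1m
        ((liftOrder_four (bin a b) hnE hE hEw (by simp)).congr (split_form a b 1 1).symm)⟩⟩
  · exact ⟨_, h, by omega, Or.inr ⟨2 ^ 2 * (q + 1), by ring,
      lift_prod hab (prod_comm _ _) hnE (hnH 3) h1p o1p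
        ((liftOrder_four (H 1) (hnH 1) hP hPw (by simp)).congr three_planes)⟩⟩
  · exact ⟨_, h, by omega, Or.inr ⟨2 ^ 1 * (q ^ 2 - 1), by ring,
      lift_prod hab (split_form a b 2 1).symm (hnH 2) (hnHE 1) h2m (odd_pow_succ_sub_one 1)
        (liftOrder_two (bin a b) hnE hE hEw)⟩⟩
  · exact ⟨_, h, by omega, Or.inr ⟨2 ^ 1 * (q ^ 2 + 1), by ring,
      lift_prod hab (middle_form a b) (hnHE 1) (hnH 2) h2p (odd_pow_succ_add_one 1)
        ((liftOrder_two (H 1) (hnH 1) hP hPw).congr (hyp_add (F := F) 1 1).symm)⟩⟩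
  · exact ⟨_, h, by omega, Or.inr ⟨2 ^ 0 * (q ^ 3 - 1), by ring,
      lift_prod hab (Equivalent.refl _) (hnH 3) hnE h3m (odd_pow_succ_sub_one 2)
        (liftOrder_one _ hv2)⟩⟩
  · exact ⟨_, h, by omega, Or.inr ⟨2 ^ 0 * (q ^ 3 + 1), by ring,
      lift_prod hab (top_form a b) (hnHE 2) (hnH 1) h3p (odd_pow_succ_add_one 2)
        (liftOrder_one _ hv1)⟩⟩
  · exact ⟨_, h, mul_ne_zero two_ne_zero (mul_ne_zero (by omega) (by omega)),
      Or.inr ⟨2 ^ 0 * ((q ^ 2 + 1) * (q - 1)), by ring,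
      lift_prod hab (plus_form a b) (prod_nondeg (hnHE 1) (hnH 1)) (hnH 1) (h2p.prod_mul h1m c21m)
        ((odd_pow_succ_add_one 1).mul o1m) (liftOrder_one _ hv1)⟩⟩
  · exact ⟨_, h, mul_ne_zero two_ne_zero (mul_ne_zero (by omega) (by omega)),
      Or.inr ⟨2 ^ 0 * ((q ^ 2 + 1) * (q + 1)), by ring,
      lift_prod hab (minus_form a b ha) (prod_nondeg (hnHE 1) hnE) hnE (h2p.prod_mul h1p c21p)
        ((odd_pow_succ_add_one 1).mul o1p) (liftOrder_one _ hv2)⟩⟩
  · exact ⟨_, h, by omega, Or.inl ⟨h4p, odd_pow_succ_add_one 3⟩⟩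
  · refine ⟨_, h, by omega, Or.inl ⟨?_, odd_pow_succ_sub_one 3⟩⟩
    have hmul : q ^ 4 - 1 = (q ^ 2 + 1) * (q ^ 2 - 1) := by
      rw [← Nat.sq_sub_sq, one_pow, ← pow_mul]
    rw [hmul]
    exact (h2p.prod_mul h2m (coprime_of_odd (odd_pow_succ_add_one 1)
      (Or.inl ⟨1, by push_cast [Nat.cast_sub hq2.le]; ring⟩))).congr (middle_form a b)
  · exact ⟨_, h, mul_ne_zero (by omega) (by omega), Or.inl
      ⟨(h3p.prod_mul h1m (coprime_of_odd (odd_pow_succ_add_one 2)
        (Or.inl ⟨(q : ℤ) ^ 2 + q + 1, by push_cast [Nat.cast_sub hq.le]; ring⟩))).congr (top_form a b),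
      (odd_pow_succ_add_one 2).mul o1m⟩⟩
  · exact ⟨_, h, mul_ne_zero (by omega) (by omega), Or.inl
      ⟨h3m.prod_mul h1p (coprime_of_odd (odd_pow_succ_sub_one 2)
        (Or.inr ⟨(q : ℤ) ^ 2 - q + 1, by push_cast [Nat.cast_sub hq3.le]; ring⟩)),
      (odd_pow_succ_sub_one 2).mul o1p⟩⟩

end CfsgLib.OrthTwo
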